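import Cfsg.Agent.Omega.NO3S.RedC.MaxMin

/-!
# Thompson-Timmesfeld replacement, group form

`A` normalises the elementary abelian group `U`, acts on it as an elementary abelian offender: some `B ≤ A` moves `U`,
satisfies `|Y : C_Y(B)| ≤ |B : C_B(Y)|` for ALL `Y ≤ U` and `[U, B, B] = 1`.
-/

set_option autoImplicit false

namespace Cfsg.Agent.Omega.NO3S.VFour

open Subgroup Cfsg Cfsg.Agent.ZN Cfsg.Agent.ZN.ChoiceBase
open Cfsg.Agent.Omega.FFThm (OffM ElemM)
open scoped commutatorElement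
open Cfsg.Agent.Omega.NO3S.RedC (MaxMin exists_maxMin)

universe u

variable {G : Type u} [Group G] [Finite G] {U A : Subgroup G}

/-- **The replacement theorem.** -/
theorem exists_quad (hU : U ≤ centralizer (U : Set G)) (sq : ∀ x ∈ U, x ^ 2 = 1) (hA : IsElementaryAbelian 2 A)
    (hAU : A ≤ normalizer (U : Set G)) (ne : ¬ A ≤ centralizer (U : Set G))
    (hoff : (centralizer (A : Set G)).relIndex U ≤ (centralizer (U : Set G)).relIndex A) :
    ∃ B ≤ A, ¬ B ≤ centralizer (U : Set G) ∧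
      (∀ Y ≤ U, (centralizer (B : Set G)).relIndex Y ≤ (centralizer (Y : Set G)).relIndex B) ∧
      (∀ x ∈ U, ∀ b ∈ B, b * x * b⁻¹ * x⁻¹ ∈ centralizer (B : Set G)) ∧
      ⁅⁅U, B⁆, B⁆ = ⊥ := by
  obtain ⟨hA1, hA2⟩ := hA
  have hAsq : ∀ a ∈ A, a ^ 2 = 1 := hA2
  have hAc : ∀ a ∈ A, ∀ b ∈ A, a * b = b * a := fun a ha b hb =>
    congrArg Subtype.val (hA1.is_comm.comm (⟨a, ha⟩ : A) ⟨b, hb⟩)
  have hO : OffM U A :=
    { sq := fun a ha => by rw [hAsq a ha]; exact one_mem _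
      comm := fun a ha b hb => by
        have e : a * b * a⁻¹ * b⁻¹ = 1 := by rw [hAc a ha b hb]; group
        rw [e]; exact one_mem _
      ne := ne
      le := FFThm.relIndex_le_iff.2 hoff }
  obtain ⟨B, m⟩ := exists_maxMin hAU ⟨A, le_rfl, hO⟩
  have hU2 : IsPGroup 2 U := fun ⟨x, hx⟩ => ⟨1, Subtype.ext (by simpa using sq x hx)⟩
  have hBU : B ≤ normalizer (U : Set G) := m.le.trans hAU
  have hT : IsPGroup 2 (U ⊔ B : Subgroup G) := IsPGroup.to_sup_of_normal_left' hU2 m.pg hBU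
  have hq : ∀ x ∈ U, ∀ b ∈ B, b * x * b⁻¹ * x⁻¹ ∈ centralizer (B : Set G) := fun x hx b hb =>
    m.quad hU hT le_sup_left le_sup_right hAU hx hb
  refine ⟨B, m.le, m.ne, fun Y hY => m.off hU hY, hq, ?_⟩
  rw [commutator_eq_bot_iff_le_centralizer, commutator_le]
  intro x hx b hb
  have h1 := inv_mem (hq x hx b hb)
  have e : (b * x * b⁻¹ * x⁻¹)⁻¹ = ⁅x, b⁆ := by rw [commutatorElement_def]; group
  rwa [e] at h1

end Cfsg.Agent.Omega.NO3S.VFour
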