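import Cfsg.Agent.Omega.ML.Final
import Cfsg.Agent.Omega.KL.PlugG

/-!
# THEOREM V4 (helper537 #25093): averaging over an odd orbit

* `exists_fix` : a coset of an invariant subgroup of an elementary abelian 2-group which is fixed by `H` and contains a
  vector with stabiliser of odd index contains a fixed vector;
* `exists_fix_grp` : the same in a group `G`, modulo a central subgroup.
-/

set_option autoImplicit false

namespace Cfsg.Agent.Omega.NO3S.V4

open Subgroup Cfsg Cfsg.Agent.ZN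

universe u

theorem exists_fix_comm {H M : Type*} [Group H] [Finite H] [CommGroup M] [MulDistribMulAction H M]
    (sq : ∀ m : M, m * m = 1) (N : Subgroup M) {e : M} (he : ∀ h : H, (h • e) * e ∈ N)
    (S : Subgroup H) (hS : ∀ s ∈ S, s • e = e) (odd : ¬ 2 ∣ S.index) :
    ∃ f : M, f * e ∈ N ∧ ∀ h : H, h • f = f := by
  classical
  have := Fintype.ofFinite (H ⧸ S)
  let F : H ⧸ S → M := Quotient.lift (fun h : H => h • e) (fun a b hab => by
    have h1 : a⁻¹ * b ∈ S := QuotientGroup.leftRel_apply.1 hab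
    have h2 := hS _ h1
    change a • e = b • e
    calc a • e = a • (a⁻¹ * b) • e := by rw [h2]
      _ = b • e := by rw [smul_smul, mul_inv_cancel_left])
  have hF : ∀ (h : H) (q : H ⧸ S), h • F q = F (h • q) := by
    intro h q
    induction q using QuotientGroup.induction_on with
    | H a => exact smul_smul h a e
  refine ⟨∏ q, F q, ?_, fun h => ?_⟩
  · have h1 : (∏ q, F q) * e = ∏ q : H ⧸ S, (F q * e) := by
      rw [Finset.prod_mul_distrib, Finset.prod_const, Finset.card_univ]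
      congr 1
      have h2 : Fintype.card (H ⧸ S) = S.index := by rw [Subgroup.index, Nat.card_eq_fintype_card]
      rw [h2]
      obtain ⟨k, hk⟩ : ∃ k, S.index = 2 * k + 1 := by
        obtain ⟨k, hk | hk⟩ := Nat.even_or_odd' S.index
        · exact absurd ⟨k, hk⟩ odd
        · exact ⟨k, hk⟩
      rw [hk, pow_succ, pow_mul, pow_two, sq, one_pow, one_mul]
    rw [h1]
    refine Subgroup.prod_mem _ fun q _ => ?_
    induction q using QuotientGroup.induction_on with
    | H a => exact he a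
  · rw [Finset.smul_prod']
    calc ∏ q, h • F q = ∏ q, F (h • q) := Finset.prod_congr rfl fun q _ => hF h q
      _ = ∏ q, F q := Equiv.prod_comp (MulAction.toPerm h) F

theorem exists_fix {H M : Type*} [Group H] [Finite H] [inst : Group M] [MulDistribMulAction H M]
    (sq : ∀ m : M, m * m = 1) (N : Subgroup M) {e : M} (he : ∀ h : H, (h • e) * e ∈ N)
    (S : Subgroup H) (hS : ∀ s ∈ S, s • e = e) (odd : ¬ 2 ∣ S.index) :
    ∃ f : M, f * e ∈ N ∧ ∀ h : H, h • f = f := by
  have hc : ∀ a b : M, a * b = b * a := fun a b =>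
    KL.PlugG.comm_of_sq (E := (⊤ : Subgroup M)) (fun x _ => sq x) (mem_top a) (mem_top b)
  obtain ⟨c, rfl⟩ : ∃ c : CommGroup M, c.toGroup = inst := ⟨{ inst with mul_comm := hc }, rfl⟩
  exact exists_fix_comm sq N he S hS odd

/-- a coset `p N` of `U / Z` fixed by `H`, `p Z` fixed by `S` of odd index in `H` -/
theorem exists_fix_grp {G : Type u} [Group G] [Finite G] {U Z N H S : Subgroup G} {p : G} (sq : ∀ x ∈ U, x * x = 1)
    (hZN : Z ≤ N) (hNU : N ≤ U) (hHU : H ≤ normalizer (U : Set G)) (hHZ : ∀ h ∈ H, ∀ z ∈ Z, h * z = z * h)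
    (hp : p ∈ U) (he : ∀ h ∈ H, h * p * h⁻¹ * p⁻¹ ∈ N) (hS : ∀ s ∈ S, s * p * s⁻¹ * p⁻¹ ∈ Z)
    (odd : ¬ 2 ∣ S.relIndex H) :
    ∃ f ∈ U, f * p⁻¹ ∈ N ∧ ∀ h ∈ H, h * f * h⁻¹ * f⁻¹ ∈ Z := by
  have hZU : Z ≤ U := hZN.trans hNU
  have hcm : ∀ a ∈ U, ∀ b ∈ U, a * b = b * a := fun a ha b hb => KL.PlugG.comm_of_sq sq ha hb
  have hHZn : H ≤ normalizer (Z : Set G) := by
    have key : ∀ h ∈ H, ∀ z ∈ Z, h * z * h⁻¹ ∈ Z := fun h hh z hz => by
      rw [hHZ h hh z hz, mul_inv_cancel_right]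
      exact hz
    intro h hh
    rw [mem_normalizer_iff]
    intro z
    refine ⟨key h hh z, fun hz => ?_⟩
    have h1 := key h⁻¹ (inv_mem hh) _ hz
    have e : h⁻¹ * (h * z * h⁻¹) * h⁻¹⁻¹ = z := by group
    rwa [e] at h1
  have hnor : (Z.subgroupOf U).Normal := by
    refine normal_subgroupOf_of_le_normalizer fun n hn => ?_
    rw [mem_normalizer_iff]
    intro z
    constructor
    · intro hz
      rwa [hcm n hn z (hZU hz), mul_inv_cancel_right]
    · intro hz
      have h1 := hcm n hn _ (hZU hz)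
      have e : n * z * n⁻¹ = z := by
        have e1 : n * (n * z * n⁻¹) = n * z := by rw [h1]; group
        exact mul_left_cancel e1
      rwa [e] at hz
  let _ := ML.Final.conjAct hHU hHZn
  let mk : U →* U ⧸ Z.subgroupOf U := QuotientGroup.mk' (Z.subgroupOf U)
  have hmk : Function.Surjective mk := QuotientGroup.mk'_surjective _
  have hmem : ∀ (g : H) (n : U), (g : G) * n * (g : G)⁻¹ ∈ U := fun g n =>
    (mem_normalizer_iff.1 (hHU g.2) n).1 n.2
  have hsm : ∀ (g : H) (n : U), g • mk n = mk ⟨(g : G) * n * (g : G)⁻¹, hmem g n⟩ := fun _ _ => rfl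
  have hone : ∀ a b : U, mk a = mk b ↔ (a : G) * (b : G)⁻¹ ∈ Z := by
    intro a b
    rw [← mul_inv_eq_one, ← map_inv, ← map_mul, ← MonoidHom.mem_ker, QuotientGroup.ker_mk']
    exact Iff.rfl
  have hfix : ∀ (g : H) (n : U), g • mk n = mk n ↔ (g : G) * n * (g : G)⁻¹ * (n : G)⁻¹ ∈ Z := by
    intro g n
    rw [hsm, hone]
  have hsq : ∀ m : U ⧸ Z.subgroupOf U, m * m = 1 := by
    intro m
    obtain ⟨n, rfl⟩ := hmk m
    have h1 : n * n = 1 := Subtype.ext (sq n n.2)
    rw [← map_mul, h1, map_one]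
  have hmN : ∀ a : U, mk a ∈ (N.subgroupOf U).map mk → (a : G) ∈ N := by
    rintro a ⟨b, hb, hba⟩
    have h1 := (hone b a).1 hba
    have e : (a : G) = ((b : G) * (a : G)⁻¹)⁻¹ * b := by group
    rw [e]
    exact mul_mem (inv_mem (hZN h1)) (mem_subgroupOf.1 hb)
  obtain ⟨f, hf1, hf2⟩ := exists_fix hsq ((N.subgroupOf U).map mk) (e := mk ⟨p, hp⟩) (fun h => by
      rw [hsm, ← map_mul]
      refine ⟨_, ?_, rfl⟩
      rw [SetLike.mem_coe, mem_subgroupOf]
      change (h : G) * p * (h : G)⁻¹ * p ∈ N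
      have e : p⁻¹ = p := inv_eq_of_mul_eq_one_left (sq p hp)
      have h1 := he h h.2
      rwa [e] at h1) (S.subgroupOf H) (fun s hs => (hfix s ⟨p, hp⟩).2 (hS s (mem_subgroupOf.1 hs))) odd
  obtain ⟨n, rfl⟩ := hmk f
  refine ⟨n, n.2, ?_, fun h hh => (hfix ⟨h, hh⟩ n).1 (hf2 ⟨h, hh⟩)⟩
  rw [← map_mul] at hf1
  have h1 := hmN _ hf1
  have e : p⁻¹ = p := inv_eq_of_mul_eq_one_left (sq p hp)
  rw [e]
  exact h1

end Cfsg.Agent.Omega.NO3S.V4
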