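import Mathlib.GroupTheory.Index
import Mathlib.GroupTheory.Subgroup.Centralizer
import Mathlib.GroupTheory.Commutator.Basic
import Mathlib.Tactic

/-!
# THEOREM V4 (helper537 #25093), CLAIM 1: the count, without bases

`U` elementary abelian, `A ≤ N(U)`. Suppose every `B ≤ A` moving `U` has a subgroup `B₁` of index `≤ 2` and two
elements `v, v'` of `U` with `[v, B₁], [v', B₁] ⊆ Z`, while `[v, b], [v', b'], [v v', b''] ∉ Z` for some `b, b', b'' ∈ B`.
Then `|A : C_A(U)|² ≤ |U : K|` for every `K ≤ U` with `[K, A] ⊆ Z`.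
-/

set_option autoImplicit false
set_option linter.unusedSectionVars false

namespace Cfsg.Agent.Omega.NO3S.V4.Cnt

open Subgroup
open scoped commutatorElement

universe u

variable {G : Type u} [Group G]

theorem comm_mul_left {U Z : Subgroup G} (hU : ∀ x ∈ U, ∀ y ∈ U, x * y = y * x) {b : G}
    (hb : ∀ x ∈ U, b * x * b⁻¹ ∈ U) {x y : G} (hx : x ∈ U) (hy : y ∈ U) (h1 : ⁅x, b⁆ ∈ Z) (h2 : ⁅y, b⁆ ∈ Z) :
    ⁅x * y, b⁆ ∈ Z := by
  have h3 : ⁅y, b⁆ ∈ U := by
    rw [commutatorElement_def]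
    have : y * b * y⁻¹ * b⁻¹ = y * (b * y⁻¹ * b⁻¹) := by group
    rw [this]
    exact mul_mem hy (hb _ (inv_mem hy))
  have h4 : ⁅x * y, b⁆ = x * ⁅y, b⁆ * x⁻¹ * ⁅x, b⁆ := by
    simp only [commutatorElement_def]; group
  rw [h4, hU x hx _ h3, mul_inv_cancel_right]
  exact mul_mem h2 h1

theorem comm_inv_left {U Z : Subgroup G} (hU : ∀ x ∈ U, ∀ y ∈ U, x * y = y * x) {b : G}
    (hb : ∀ x ∈ U, b * x * b⁻¹ ∈ U) {x : G} (hx : x ∈ U) (h1 : ⁅x, b⁆ ∈ Z) : ⁅x⁻¹, b⁆ ∈ Z := by
  have h3 : ⁅x, b⁆ ∈ U := by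
    rw [commutatorElement_def]
    have : x * b * x⁻¹ * b⁻¹ = x * (b * x⁻¹ * b⁻¹) := by group
    rw [this]
    exact mul_mem hx (hb _ (inv_mem hx))
  have h4 : ⁅x⁻¹, b⁆ = x⁻¹ * ⁅x, b⁆⁻¹ * x := by
    simp only [commutatorElement_def]; group
  rw [h4, hU x⁻¹ (inv_mem hx) _ (inv_mem h3), inv_mul_cancel_right]
  exact inv_mem h1

/-- `[⟨s⟩, b] ⊆ Z` -/
theorem comm_closure {U Z : Subgroup G} (hU : ∀ x ∈ U, ∀ y ∈ U, x * y = y * x) {b : G}
    (hb : ∀ x ∈ U, b * x * b⁻¹ ∈ U) {s : Set G} (hs : s ⊆ U) (h1 : ∀ x ∈ s, ⁅x, b⁆ ∈ Z) :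
    ∀ x ∈ closure s, ⁅x, b⁆ ∈ Z := by
  have hsU : closure s ≤ U := (closure_le _).2 hs
  intro x hx
  induction hx using closure_induction with
  | mem x hx => exact h1 x hx
  | one => rw [commutatorElement_one_left]; exact one_mem _
  | mul x y hx hy h2 h3 => exact comm_mul_left hU hb (hsU hx) (hsU hy) h2 h3
  | inv x hx h2 => exact comm_inv_left hU hb (hsU hx) h2

variable [Finite G]

/-- `|B : C_B(U)| ≤ |B₁ : C_{B₁}(U)| |B : B₁|` -/
theorem relIndex_le_mul {C B B₁ : Subgroup G} (h : B₁ ≤ B) : C.relIndex B ≤ C.relIndex B₁ * B₁.relIndex B := by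
  have h1 := relIndex_mul_relIndex (C ⊓ B₁) B₁ B inf_le_right h
  rw [inf_relIndex_right] at h1
  rw [h1]
  exact relIndex_le_of_le_left inf_le_left index_ne_zero_of_finite

/-- `2 ≤ |K' : K|` -/
theorem two_le_relIndex {K K' : Subgroup G} {v : G} (hv : v ∈ K') (hn : v ∉ K) : 2 ≤ K.relIndex K' := by
  have h1 : K.relIndex K' ≠ 1 := fun e => hn (relIndex_eq_one.1 e hv)
  have h2 : K.relIndex K' ≠ 0 := index_ne_zero_of_finite
  omega

/-- The hypothesis of the count. -/
def Step (U Z A : Subgroup G) : Prop :=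
  ∀ B : Subgroup G, B ≤ A → ¬ B ≤ centralizer (U : Set G) →
    ∃ B₁ : Subgroup G, B₁ ≤ B ∧ B₁.relIndex B ≤ 2 ∧ ∃ v ∈ U, ∃ v' ∈ U,
      (∀ b ∈ B₁, ⁅v, b⁆ ∈ Z) ∧ (∀ b ∈ B₁, ⁅v', b⁆ ∈ Z) ∧
      (∃ b ∈ B, ⁅v, b⁆ ∉ Z) ∧ (∃ b ∈ B, ⁅v', b⁆ ∉ Z) ∧ ∃ b ∈ B, ⁅v * v', b⁆ ∉ Z

/-- **The count.** -/
theorem Step.sq_le {U Z A : Subgroup G} (hU : ∀ x ∈ U, ∀ y ∈ U, x * y = y * x) (hs : ∀ x ∈ U, x * x = 1)
    (hA : A ≤ normalizer (U : Set G)) (st : Step U Z A) :
    ∀ (n : ℕ) (B K : Subgroup G), Nat.card B ≤ n → B ≤ A → K ≤ U → (∀ u ∈ K, ∀ b ∈ B, ⁅u, b⁆ ∈ Z) →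
      (centralizer (U : Set G)).relIndex B ^ 2 ≤ K.relIndex U := by
  intro n
  induction n with
  | zero => intro B K hB; exact absurd (Nat.card_pos (α := B)) (by omega)
  | succ n ih =>
    intro B K hn hBA hKU hK
    by_cases hc : B ≤ centralizer (U : Set G)
    · rw [relIndex_eq_one.2 hc, one_pow]
      exact Nat.pos_of_ne_zero index_ne_zero_of_finite
    obtain ⟨B₁, hB₁, h2, v, hv, v', hv', c1, c2, ⟨b1, hb1, e1⟩, ⟨b2, hb2, e2⟩, ⟨b3, hb3, e3⟩⟩ := st B hBA hc
    have hconj : ∀ b ∈ B, ∀ x ∈ U, b * x * b⁻¹ ∈ U := fun b hb x hx =>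
      (mem_normalizer_iff.1 (hA (hBA hb)) x).1 hx
    -- the order of `B₁`
    have hlt : B₁ < B := lt_of_le_of_ne hB₁ fun e => e1 (c1 b1 (e ▸ hb1))
    have hcard : Nat.card B₁ ≤ n := by
      have : Nat.card B₁ < Nat.card B := by
        refine lt_of_le_of_ne (Nat.card_le_card_of_injective _ (inclusion_injective hB₁)) fun e => hlt.ne ?_
        exact Subgroup.eq_of_le_of_card_ge hB₁ e.ge
      omega
    -- the new subgroup
    set K₁ : Subgroup G := closure ((K : Set G) ∪ {v}) with hK₁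
    set K₂ : Subgroup G := closure ((K₁ : Set G) ∪ {v'}) with hK₂
    have hK₁U : K₁ ≤ U := (closure_le _).2 (Set.union_subset hKU (by simpa using hv))
    have hK₂U : K₂ ≤ U := (closure_le _).2 (Set.union_subset hK₁U (by simpa using hv'))
    have hKK₁ : K ≤ K₁ := fun x hx => subset_closure (Or.inl hx)
    have hKK₂ : K₁ ≤ K₂ := fun x hx => subset_closure (Or.inl hx)
    have hvK : v ∈ K₁ := subset_closure (Or.inr rfl)
    have hvK' : v' ∈ K₂ := subset_closure (Or.inr rfl)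
    have hc1 : ∀ u ∈ K₁, ∀ b ∈ B₁, ⁅u, b⁆ ∈ Z := by
      intro u hu b hb
      refine comm_closure hU (hconj b (hB₁ hb)) (Set.union_subset hKU (by simpa using hv)) ?_ u hu
      rintro x (hx | hx)
      · exact hK x hx b (hB₁ hb)
      · rw [Set.mem_singleton_iff] at hx
        rw [hx]
        exact c1 b hb
    have hc2 : ∀ u ∈ K₂, ∀ b ∈ B₁, ⁅u, b⁆ ∈ Z := by
      intro u hu b hb
      refine comm_closure hU (hconj b (hB₁ hb)) (Set.union_subset hK₁U (by simpa using hv')) ?_ u hu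
      rintro x (hx | hx)
      · exact hc1 x hx b hb
      · rw [Set.mem_singleton_iff] at hx
        rw [hx]
        exact c2 b hb
    have hvn : v ∉ K := fun h => e1 (hK v h b1 hb1)
    have hvn' : v' ∉ K₁ := by
      intro h
      have key : ∀ x ∈ K₁, x ∈ K ∨ v * x ∈ K := by
        intro x hx
        induction hx using closure_induction with
        | mem x hx =>
          rcases hx with hx | hx
          · exact Or.inl hx
          · rw [Set.mem_singleton_iff] at hx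
            right
            rw [hx, hs v hv]
            exact one_mem _
        | one => exact Or.inl (one_mem _)
        | mul x y hx hy h1 h2 =>
          have hxU := hK₁U hx
          have hyU := hK₁U hy
          rcases h1 with h1 | h1 <;> rcases h2 with h2 | h2
          · exact Or.inl (mul_mem h1 h2)
          · right
            have : v * (x * y) = x * (v * y) := by rw [← mul_assoc, hU v hv x hxU, mul_assoc]
            rw [this]
            exact mul_mem h1 h2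
          · right
            rw [← mul_assoc]
            exact mul_mem h1 h2
          · left
            have : x * y = v * x * (v * y) := by
              calc x * y = (v * v) * (x * y) := by rw [hs v hv, one_mul]
                _ = v * (v * x) * y := by group
                _ = v * (x * v) * y := by rw [hU v hv x hxU]
                _ = v * x * (v * y) := by group
            rw [this]
            exact mul_mem h1 h2
        | inv x hx h1 =>
          have hxU := hK₁U hx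
          rcases h1 with h1 | h1
          · exact Or.inl (inv_mem h1)
          · right
            have hvi : v⁻¹ = v := inv_eq_of_mul_eq_one_right (hs v hv)
            have : v * x⁻¹ = (v * x)⁻¹ := by
              rw [mul_inv_rev, hvi, hU v hv _ (inv_mem hxU)]
            rw [this]
            exact inv_mem h1
      rcases key v' h with h1 | h1
      · exact e2 (hK v' h1 b2 hb2)
      · exact e3 (hK _ h1 b3 hb3)
    have i1 := two_le_relIndex hvK hvn
    have i2 := two_le_relIndex hvK' hvn'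
    have i3 := ih B₁ K₂ hcard (hB₁.trans hBA) hK₂U hc2
    have i4 := relIndex_le_mul (C := centralizer (U : Set G)) hB₁
    have j1 := relIndex_mul_relIndex K K₁ K₂ hKK₁ hKK₂
    have j2 := relIndex_mul_relIndex K K₂ U (hKK₁.trans hKK₂) hK₂U
    rw [← j2, ← j1]
    have i5 : (centralizer (U : Set G)).relIndex B ≤ (centralizer (U : Set G)).relIndex B₁ * 2 :=
      i4.trans (Nat.mul_le_mul_left _ h2)
    calc (centralizer (U : Set G)).relIndex B ^ 2 ≤ ((centralizer (U : Set G)).relIndex B₁ * 2) ^ 2 :=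
          Nat.pow_le_pow_left i5 2
      _ = 2 * 2 * (centralizer (U : Set G)).relIndex B₁ ^ 2 := by ring
      _ ≤ K.relIndex K₁ * K₁.relIndex K₂ * K₂.relIndex U := Nat.mul_le_mul (Nat.mul_le_mul i1 i2) i3

/-- **`|A : C_A(U)|² ≤ |U : K|`** -/
theorem Step.main {U Z A K : Subgroup G} (st : Step U Z A) (hU : ∀ x ∈ U, ∀ y ∈ U, x * y = y * x)
    (hs : ∀ x ∈ U, x * x = 1) (hA : A ≤ normalizer (U : Set G)) (hKU : K ≤ U)
    (hK : ∀ u ∈ K, ∀ b ∈ A, ⁅u, b⁆ ∈ Z) : (centralizer (U : Set G)).relIndex A ^ 2 ≤ K.relIndex U :=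
  st.sq_le hU hs hA _ A K le_rfl le_rfl hKU hK

end Cfsg.Agent.Omega.NO3S.V4.Cnt
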