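import Cfsg.Agent.Omega.NO3S.V4.OneCnt
import Cfsg.Agent.Omega.ELV.AA
import Cfsg.Agent.Omega.ML.GMod

/-!
# THEOREM V4 (helper537 #25093), CLAIM 1

`M = C_G(z)`, `X = C_G(x, z)`, `O = O₂(X)`, `Q = O₂(M)`, `U = ⟨V^M⟩` elementary abelian; `Q` acts on `V` (a line) as a
four-group with `[V, Q] = F`, `[F, Q] = ⟨z⟩`, `D = ⟨x, z⟩` and `X ≰ N_G(F)`.

* `Dat1 z x F V U S` : the hypotheses;
* `Dat1.cent` : **`J(O₂(X))` centralises `U`**;
* **`Dat1.claim`** : `C_G(z) ≤ N_G(J(O₂(X)))` and `J(O₂(X)) ≤ C_G(V)`.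
-/

set_option autoImplicit false
set_option linter.unusedSectionVars false

namespace Cfsg.Agent.Omega.NO3S.V4

open Subgroup Cfsg
open Cfsg.Agent.ZN (o2 jj)
open Cfsg.Agent.ZN.ChoiceBase (AA jj_eq jj_le le_jj jj_eq_of_jj_le normalizer_le_jj cj cj_mono mem_cj
  mem_normalizer_iff_cj cj_eq_of_mem_normalizer mem_normalizer_of_cj_le cj_cj cj_cj_inv)
open Cfsg.Agent.MinSimple.VModule (o2_isPGroup o2_le le_o2 le_normalizer_o2)
open Cfsg.Agent.Omega.NO3S.EThree (Offd)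
open Cfsg.Agent.Omega.NO3S.SN.ROne (best_quad)
open Cfsg.Agent.Omega.ML.Final (MLK)

universe u

variable {G : Type u} [Group G]

/-- **The hypotheses of CLAIM 1.** -/
structure Dat1 (z x : G) (F V U S : Subgroup G) : Prop where
  z2 : z * z = 1
  x2 : x * x = 1
  xz : x * z = z * x
  xn : x ∉ zpowers z
  xF : x ∈ F
  zF : z ∈ F
  FV : F ≤ V
  VU : V ≤ U
  Uc : ∀ a ∈ U, ∀ b ∈ U, a * b = b * a
  Us : ∀ a ∈ U, a * a = 1
  UM : centralizer ({z} : Set G) ≤ normalizer (U : Set G)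
  gen : ∀ W : Subgroup G, V ≤ W → centralizer ({z} : Set G) ≤ normalizer (W : Set G) → U ≤ W
  /-- `[V, Q] ≤ F` -/
  qV : ∀ q ∈ o2 (centralizer ({z} : Set G)), ∀ v ∈ V, q * v * q⁻¹ * v⁻¹ ∈ F
  /-- `[F, Q] ≤ ⟨z⟩` -/
  qF : ∀ q ∈ o2 (centralizer ({z} : Set G)), ∀ f ∈ F, q * f * q⁻¹ * f⁻¹ ∈ zpowers z
  /-- `F = [V, Q]⟨z⟩` -/
  Fq : ∀ W : Subgroup G, z ∈ W → (∀ q ∈ o2 (centralizer ({z} : Set G)), ∀ v ∈ V, q * v * q⁻¹ * v⁻¹ ∈ W) → F ≤ W
  /-- `C_Q(F) ≤ C(V)` -/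
  cF : ∀ q ∈ o2 (centralizer ({z} : Set G)), (∀ f ∈ F, q * f = f * q) → ∀ v ∈ V, q * v = v * q
  /-- `F ≤ ⟨x^M⟩⟨z⟩` -/
  Fx : ∀ W : Subgroup G, z ∈ W → x ∈ W → centralizer ({z} : Set G) ≤ normalizer (W : Set G) → F ≤ W
  /-- `|F : D| = 2` -/
  FD : ∀ a ∈ F, ∀ b ∈ F, a ∉ closure ({x, z} : Set G) → b ∉ closure ({x, z} : Set G) →
    a * b ∈ closure ({x, z} : Set G)
  ne : ∃ v ∈ V, v ∉ F
  /-- `q` moves `x` ⟹ `[q, v] ∉ D` -/
  L1 : ∀ q ∈ o2 (centralizer ({z} : Set G)), q * x ≠ x * q → ∀ v ∈ V, v ∉ F →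
    q * v * q⁻¹ * v⁻¹ ∉ closure ({x, z} : Set G)
  /-- `q` centralises `x` and moves `v`, `q'` moves `x` ⟹ `q'` moves `[q, v]` -/
  L2 : ∀ q ∈ o2 (centralizer ({z} : Set G)), ∀ q' ∈ o2 (centralizer ({z} : Set G)), q * x = x * q →
    q' * x ≠ x * q' → ∀ v ∈ V, v ∉ F → q * v * q⁻¹ * v⁻¹ ≠ 1 →
    q' * (q * v * q⁻¹ * v⁻¹) ≠ (q * v * q⁻¹ * v⁻¹) * q'
  /-- `X ≰ N(F)` -/
  mv : ∃ d ∈ centralizer ({x, z} : Set G), d ∉ normalizer (F : Set G)
  SM : S ≤ centralizer ({z} : Set G)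
  S2 : IsPGroup 2 S
  Sodd : ¬ 2 ∣ S.relIndex (centralizer ({z} : Set G))
  Sx : ∀ s ∈ S, s * x * s⁻¹ * x⁻¹ ∈ zpowers z
  KG : IsKGroup (centralizer ({z} : Set G))

/-- `⟨D^M⟩` -/
def Phi (z x : G) : Subgroup G := ML.GMod.hul (closure ({x, z} : Set G)) (centralizer ({z} : Set G))

/-- `[b, v^g]` -/
theorem cj_comm' (g b v : G) : b * (g * v * g⁻¹) * b⁻¹ * (g * v * g⁻¹)⁻¹ =
    g * ((g⁻¹ * b * g) * v * (g⁻¹ * b * g)⁻¹ * v⁻¹) * g⁻¹ := by group

namespace Dat1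

variable {z x : G} {F V U S : Subgroup G}

section basic

variable (h : Dat1 z x F V U S)
include h

theorem mem_zp {g : G} : g ∈ zpowers z ↔ g = 1 ∨ g = z := by
  constructor
  · rintro ⟨n, rfl⟩
    rcases Int.even_or_odd' n with ⟨m, rfl | rfl⟩
    · left
      change z ^ (2 * m) = 1
      rw [zpow_mul, zpow_two, h.z2, one_zpow]
    · right
      change z ^ (2 * m + 1) = z
      rw [zpow_add, zpow_mul, zpow_two, h.z2, one_zpow, one_mul, zpow_one]
  · rintro (rfl | rfl)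
    · exact one_mem _
    · exact mem_zpowers _

/-- `D = {1, z, x, x z}` -/
theorem mem_D {g : G} : g ∈ closure ({x, z} : Set G) ↔ g ∈ zpowers z ∨ g * x⁻¹ ∈ zpowers z := by
  have hx : x⁻¹ = x := inv_eq_of_mul_eq_one_right h.x2
  have hz : z⁻¹ = z := inv_eq_of_mul_eq_one_right h.z2
  constructor
  · intro hg
    refine closure_induction (p := fun g _ => g ∈ zpowers z ∨ g * x⁻¹ ∈ zpowers z) ?_ ?_ ?_ ?_ hg
    · rintro y (rfl | hy)
      · right
        rw [mul_inv_cancel]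
        exact one_mem _
      · left
        rw [Set.mem_singleton_iff.1 hy]
        exact mem_zpowers _
    · exact Or.inl (one_mem _)
    · intro a b _ _ ha hb
      have hcz : ∀ c ∈ zpowers z, x * c = c * x := by
        intro c hc
        rcases h.mem_zp.1 hc with rfl | rfl
        · rw [mul_one, one_mul]
        · exact h.xz
      rcases ha with ha | ha <;> rcases hb with hb | hb
      · exact Or.inl (mul_mem ha hb)
      · right
        rw [mul_assoc]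
        exact mul_mem ha hb
      · right
        have e : a * b * x⁻¹ = (a * x⁻¹) * (x * b * x⁻¹) := by group
        rw [e, hcz b hb, mul_inv_cancel_right]
        exact mul_mem ha hb
      · left
        have e : a * b = (a * x⁻¹) * (x * (b * x⁻¹) * x) := by group
        rw [e, hcz _ hb, mul_assoc (b * x⁻¹) x x, h.x2, mul_one]
        exact mul_mem ha hb
    · intro a _ ha
      rcases ha with ha | ha
      · exact Or.inl (inv_mem ha)
      · right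
        rcases h.mem_zp.1 ha with e | e
        · have e1 : a = x := mul_inv_eq_one.1 e
          rw [e1, ← mul_inv_rev, h.x2, inv_one]
          exact one_mem _
        · have e1 : a = z * x := mul_inv_eq_iff_eq_mul.1 e
          rw [e1, mul_inv_rev, hx, hz, h.xz, mul_assoc, h.x2, mul_one]
          exact mem_zpowers _
  · rintro (hg | hg)
    · rw [← zpowers_le] at hg
      have : zpowers z ≤ closure ({x, z} : Set G) := by
        rw [zpowers_le]
        exact subset_closure (Or.inr rfl)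
      exact this (hg (mem_zpowers g))
    · have e : g = (g * x⁻¹) * x := by group
      rw [e]
      refine mul_mem ?_ (subset_closure (Or.inl rfl))
      have : zpowers z ≤ closure ({x, z} : Set G) := by
        rw [zpowers_le]
        exact subset_closure (Or.inr rfl)
      exact this hg

theorem z_mem_M : z ∈ centralizer ({z} : Set G) := mem_centralizer_singleton_iff.2 rfl

theorem X_le_M : centralizer ({x, z} : Set G) ≤ centralizer ({z} : Set G) :=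
  centralizer_le (Set.singleton_subset_iff.2 (Or.inr rfl))

theorem mem_X {g : G} : g ∈ centralizer ({x, z} : Set G) ↔ g * x = x * g ∧ g * z = z * g := by
  rw [mem_centralizer_iff]
  constructor
  · exact fun hg => ⟨(hg x (Or.inl rfl)).symm, (hg z (Or.inr rfl)).symm⟩
  · rintro ⟨h1, h2⟩ y (rfl | hy)
    · exact h1.symm
    · rw [Set.mem_singleton_iff.1 hy]
      exact h2.symm

theorem zV : z ∈ V := h.FV h.zF
theorem xV : x ∈ V := h.FV h.xF
theorem zU : z ∈ U := h.VU h.zV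
theorem xU : x ∈ U := h.VU h.xV

theorem ZU : zpowers z ≤ U := by
  rw [zpowers_le]
  exact h.zU

theorem U_le_X : U ≤ centralizer ({x, z} : Set G) := fun u hu =>
  h.mem_X.2 ⟨h.Uc u hu x h.xU, h.Uc u hu z h.zU⟩

theorem zM {m : G} (hm : m ∈ centralizer ({z} : Set G)) : m * z * m⁻¹ = z := by
  rw [mem_centralizer_singleton_iff.1 hm, mul_inv_cancel_right]

/-- elements of `M` normalise `⟨z⟩` elementwise -/
theorem zpM {m c : G} (hm : m ∈ centralizer ({z} : Set G)) (hc : c ∈ zpowers z) : m * c * m⁻¹ = c := by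
  rcases h.mem_zp.1 hc with rfl | rfl
  · group
  · exact h.zM hm

/-- `m ∈ M` fixes `x` modulo `⟨z⟩` ⟹ `m` normalises `X` -/
theorem norm_X {m : G} (hm : m ∈ centralizer ({z} : Set G)) (hx : m * x * m⁻¹ * x⁻¹ ∈ zpowers z) :
    m ∈ normalizer ((centralizer ({x, z} : Set G) : Subgroup G) : Set G) := by
  have key : ∀ m ∈ centralizer ({z} : Set G), m * x * m⁻¹ * x⁻¹ ∈ zpowers z → ∀ g ∈ centralizer ({x, z} : Set G),
      m⁻¹ * g * m ∈ centralizer ({x, z} : Set G) := by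
    intro m hm hx g hg
    have hg' := h.mem_X.1 hg
    have hmz := mem_centralizer_singleton_iff.1 hm
    refine h.mem_X.2 ⟨?_, ?_⟩
    · have e1 : m * x * m⁻¹ * g = g * (m * x * m⁻¹) := by
        have e : m * x * m⁻¹ = (m * x * m⁻¹ * x⁻¹) * x := by group
        rcases h.mem_zp.1 hx with e2 | e2
        · rw [e, e2, one_mul, hg'.1]
        · rw [e, e2, mul_assoc, ← hg'.1, ← mul_assoc, ← hg'.2, mul_assoc]
      calc m⁻¹ * g * m * x = m⁻¹ * (g * (m * x * m⁻¹)) * m := by group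
        _ = m⁻¹ * (m * x * m⁻¹ * g) * m := by rw [e1]
        _ = x * (m⁻¹ * g * m) := by group
    · have e1 : m⁻¹ * z = z * m⁻¹ := mem_centralizer_singleton_iff.1 (inv_mem hm)
      calc m⁻¹ * g * m * z = m⁻¹ * g * (m * z) := by group
        _ = m⁻¹ * (g * z) * m := by rw [hmz]; group
        _ = (m⁻¹ * z) * g * m := by rw [hg'.2]; group
        _ = z * (m⁻¹ * g * m) := by rw [e1]; group
  have hx' : m⁻¹ * x * m⁻¹⁻¹ * x⁻¹ ∈ zpowers z := by
    have h1 := h.zpM (inv_mem hm) hx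
    have e : m⁻¹ * (m * x * m⁻¹ * x⁻¹) * m⁻¹⁻¹ = (m⁻¹ * x * m⁻¹⁻¹ * x⁻¹)⁻¹ := by group
    rw [← h1, e] at hx
    exact inv_mem_iff.1 hx
  rw [mem_normalizer_iff]
  intro g
  constructor
  · intro hg
    have h1 := key m⁻¹ (inv_mem hm) hx' g hg
    rwa [inv_inv] at h1
  · intro hg
    have h1 := key m hm hx _ hg
    have e : m⁻¹ * (m * g * m⁻¹) * m = g := by group
    rwa [e] at h1

theorem norm_O {m : G} (hm : m ∈ centralizer ({z} : Set G)) (hx : m * x * m⁻¹ * x⁻¹ ∈ zpowers z) :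
    m ∈ normalizer ((o2 (centralizer ({x, z} : Set G)) : Subgroup G) : Set G) :=
  ML.GMod.normalizer_le_normalizer_o2 _ (h.norm_X hm hx)

/-- `F ∩ F^d = D` -/
theorem inter [Finite G] {d a : G} (hd : d ∈ centralizer ({x, z} : Set G)) (hdF : d ∉ normalizer (F : Set G))
    (ha : a ∈ F) (ha' : d⁻¹ * a * d ∈ F) : a ∈ closure ({x, z} : Set G) := by
  by_contra hc
  have hD : ∀ y ∈ closure ({x, z} : Set G), d * y = y * d := by
    have h1 : closure ({x, z} : Set G) ≤ centralizer ({d} : Set G) := by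
      rw [closure_le]
      rintro y (rfl | hy)
      · exact mem_centralizer_singleton_iff.2 (h.mem_X.1 hd).1.symm
      · rw [Set.mem_singleton_iff.1 hy]
        exact mem_centralizer_singleton_iff.2 (h.mem_X.1 hd).2.symm
    exact fun y hy => (mem_centralizer_singleton_iff.1 (h1 hy)).symm
  have hc' : d⁻¹ * a * d ∉ closure ({x, z} : Set G) := by
    intro h1
    apply hc
    have h2 := hD _ h1
    have e : a = d * (d⁻¹ * a * d) * d⁻¹ := by group
    rw [e, h2, mul_inv_cancel_right]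
    exact h1
  apply hdF
  refine mem_normalizer_of_cj_le ?_
  intro f hf
  rw [mem_cj] at hf
  set f' := d⁻¹ * f * d with hf'
  have ef : f = d * f' * d⁻¹ := by rw [hf']; group
  by_cases h1 : f' ∈ closure ({x, z} : Set G)
  · rw [ef, hD _ h1, mul_inv_cancel_right]
    exact (closure_le F |>.2 (by
      rintro y (rfl | hy)
      · exact h.xF
      · rw [Set.mem_singleton_iff.1 hy]
        exact h.zF)) h1
  · have h2 := h.FD _ hf _ ha' h1 hc'
    have h3 := hD _ h2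
    have e : f = f' * (d⁻¹ * a * d) * a⁻¹ := by
      have e1 : d * (f' * (d⁻¹ * a * d)) * d⁻¹ = f' * (d⁻¹ * a * d) := by rw [h3, mul_inv_cancel_right]
      rw [← e1, ef]; group
    rw [e]
    exact mul_mem (mul_mem hf ha') (inv_mem ha)

theorem nQ {m q : G} (hm : m ∈ centralizer ({z} : Set G)) (hq : q ∈ o2 (centralizer ({z} : Set G))) :
    m * q * m⁻¹ ∈ o2 (centralizer ({z} : Set G)) := (mem_normalizer_iff.1 (le_normalizer_o2 _ hm) q).1 hq

theorem nQ' {m q : G} (hm : m ∈ centralizer ({z} : Set G)) (hq : q ∈ o2 (centralizer ({z} : Set G))) :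
    m⁻¹ * q * m ∈ o2 (centralizer ({z} : Set G)) := by
  have := h.nQ (inv_mem hm) hq
  rwa [inv_inv] at this

theorem QM : o2 (centralizer ({z} : Set G)) ≤ centralizer ({z} : Set G) := o2_le _

/-- an element of `Q` which centralises all `x^g` centralises `U` -/
theorem cent_U {q : G} (hq : q ∈ o2 (centralizer ({z} : Set G)))
    (hx : ∀ g ∈ centralizer ({z} : Set G), q * (g * x * g⁻¹) = (g * x * g⁻¹) * q) : ∀ u ∈ U, q * u = u * q := by
  set B : Set G := {q | q ∈ o2 (centralizer ({z} : Set G)) ∧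
    ∀ g ∈ centralizer ({z} : Set G), q * (g * x * g⁻¹) = (g * x * g⁻¹) * q} with hB
  have hBn : ∀ m ∈ centralizer ({z} : Set G), ∀ q ∈ B, m⁻¹ * q * m ∈ B := by
    rintro m hm q ⟨hq, hq'⟩
    refine ⟨h.nQ' hm hq, fun g hg => ?_⟩
    have h1 := hq' (m * g) (mul_mem hm hg)
    calc m⁻¹ * q * m * (g * x * g⁻¹) = m⁻¹ * (q * (m * g * x * (m * g)⁻¹)) * m := by group
      _ = m⁻¹ * (m * g * x * (m * g)⁻¹ * q) * m := by rw [h1]
      _ = g * x * g⁻¹ * (m⁻¹ * q * m) := by group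
  have hn : centralizer ({z} : Set G) ≤ normalizer (centralizer B : Set G) := by
    intro m hm
    rw [mem_normalizer_iff]
    have key : ∀ m ∈ centralizer ({z} : Set G), ∀ y ∈ centralizer B, m * y * m⁻¹ ∈ centralizer B := by
      intro m hm y hy
      rw [mem_centralizer_iff] at hy ⊢
      intro q hq
      have h1 := hy _ (hBn m hm q hq)
      calc q * (m * y * m⁻¹) = m * ((m⁻¹ * q * m) * y) * m⁻¹ := by group
        _ = m * (y * (m⁻¹ * q * m)) * m⁻¹ := by rw [h1]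
        _ = m * y * m⁻¹ * q := by group
    intro y
    refine ⟨key m hm y, fun hy => ?_⟩
    have h1 := key m⁻¹ (inv_mem hm) _ hy
    have e : m⁻¹ * (m * y * m⁻¹) * m⁻¹⁻¹ = y := by group
    rwa [e] at h1
  have hF : F ≤ centralizer B := by
    refine h.Fx _ ?_ ?_ hn
    · rw [mem_centralizer_iff]
      rintro q ⟨hq, -⟩
      exact mem_centralizer_singleton_iff.1 (h.QM hq)
    · rw [mem_centralizer_iff]
      rintro q ⟨-, hq⟩
      have h1 := hq 1 (one_mem _)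
      simpa using h1
  have hV : V ≤ centralizer B := by
    intro v hv
    rw [mem_centralizer_iff]
    intro q hq
    exact h.cF q hq.1 (fun f hf => (mem_centralizer_iff.1 (hF hf) q hq)) v hv
  intro u hu
  exact mem_centralizer_iff.1 (h.gen _ hV hn hu) q ⟨hq, hx⟩

/-! ### `Φ = ⟨D^M⟩` -/

theorem DV : closure ({x, z} : Set G) ≤ V := by
  rw [closure_le]
  rintro y (rfl | hy)
  · exact h.xV
  · rw [Set.mem_singleton_iff.1 hy]
    exact h.zV

theorem z_mem_D : z ∈ closure ({x, z} : Set G) := subset_closure (Or.inr rfl)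
theorem x_mem_D : x ∈ closure ({x, z} : Set G) := subset_closure (Or.inl rfl)

theorem ZP : zpowers z ≤ Phi z x := by
  rw [zpowers_le]
  exact ML.GMod.le_hul _ _ h.z_mem_D

theorem xP : x ∈ Phi z x := ML.GMod.le_hul _ _ h.x_mem_D

theorem PU : Phi z x ≤ U := ML.GMod.hul_le_of (h.DV.trans h.VU) h.UM

theorem PM : Phi z x ≤ centralizer ({z} : Set G) := fun f hf => h.X_le_M (h.U_le_X (h.PU hf))

theorem nP : centralizer ({z} : Set G) ≤ normalizer (Phi z x : Set G) := ML.GMod.le_normalizer_hul _ _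

theorem FP : F ≤ Phi z x := h.Fx _ (h.ZP (mem_zpowers z)) h.xP h.nP

/-- an `M`-invariant set which fixes `x` modulo `⟨z⟩` centralises `Φ / ⟨z⟩` -/
theorem comm_Phi {B : Set G} (hBn : ∀ m ∈ centralizer ({z} : Set G), ∀ b ∈ B, m⁻¹ * b * m ∈ B)
    (hBM : ∀ b ∈ B, b ∈ centralizer ({z} : Set G))
    (hx : ∀ b ∈ B, b * x * b⁻¹ * x⁻¹ ∈ zpowers z) : ∀ b ∈ B, ∀ f ∈ Phi z x, b * f * b⁻¹ * f⁻¹ ∈ zpowers z := by
  let W : Subgroup G :=
    { carrier := {y | y ∈ centralizer ({z} : Set G) ∧ ∀ b ∈ B, b * y * b⁻¹ * y⁻¹ ∈ zpowers z}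
      one_mem' := ⟨one_mem _, fun b _ => by
        have e : b * 1 * b⁻¹ * 1⁻¹ = 1 := by group
        rw [e]
        exact one_mem _⟩
      mul_mem' := by
        rintro y y' ⟨hy, hy1⟩ ⟨hy', hy1'⟩
        refine ⟨mul_mem hy hy', fun b hb => ?_⟩
        have e : b * (y * y') * b⁻¹ * (y * y')⁻¹ = (b * y * b⁻¹ * y⁻¹) * (y * (b * y' * b⁻¹ * y'⁻¹) * y⁻¹) := by
          group
        rw [e, h.zpM hy (hy1' b hb)]
        exact mul_mem (hy1 b hb) (hy1' b hb)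
      inv_mem' := by
        rintro y ⟨hy, hy1⟩
        refine ⟨inv_mem hy, fun b hb => ?_⟩
        have e : b * y⁻¹ * b⁻¹ * y⁻¹⁻¹ = y⁻¹ * (b * y * b⁻¹ * y⁻¹)⁻¹ * y⁻¹⁻¹ := by group
        rw [e, h.zpM (inv_mem hy) (inv_mem (hy1 b hb))]
        exact inv_mem (hy1 b hb) }
  have hW : Phi z x ≤ W := by
    refine ML.GMod.hul_le_of ?_ ?_
    · rw [closure_le]
      rintro y (rfl | hy)
      · exact ⟨h.PM h.xP, hx⟩
      · rw [Set.mem_singleton_iff.1 hy]
        refine ⟨h.z_mem_M, fun b hb => ?_⟩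
        rw [h.zM (hBM b hb), mul_inv_cancel]
        exact one_mem _
    · intro m hm
      have key : ∀ m ∈ centralizer ({z} : Set G), ∀ y ∈ W, m * y * m⁻¹ ∈ W := by
        rintro m hm y ⟨hy, hy1⟩
        refine ⟨mul_mem (mul_mem hm hy) (inv_mem hm), fun b hb => ?_⟩
        have h1 := hy1 _ (hBn m hm b hb)
        have e : b * (m * y * m⁻¹) * b⁻¹ * (m * y * m⁻¹)⁻¹ =
            m * (m⁻¹ * b * m * y * (m⁻¹ * b * m)⁻¹ * y⁻¹) * m⁻¹ := by group
        rw [e, h.zpM hm h1]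
        exact h1
      rw [mem_normalizer_iff]
      intro y
      refine ⟨key m hm y, fun hy => ?_⟩
      have h1 := key m⁻¹ (inv_mem hm) _ hy
      have e : m⁻¹ * (m * y * m⁻¹) * m⁻¹⁻¹ = y := by group
      rwa [e] at h1
  exact fun b hb f hf => (hW hf).2 b hb

/-- `[Φ, Q] ≤ ⟨z⟩` -/
theorem comm_PQ : ∀ q ∈ o2 (centralizer ({z} : Set G)), ∀ f ∈ Phi z x, q * f * q⁻¹ * f⁻¹ ∈ zpowers z :=
  h.comm_Phi (B := (o2 (centralizer ({z} : Set G)) : Subgroup G)) (fun _ hm _ hb => h.nQ' hm hb)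
    (fun _ hb => h.QM hb) fun b hb => h.qF b hb x h.xF

/-- `C_M(Φ / ⟨z⟩)` -/
def FF : Subgroup G where
  carrier := {m | m ∈ centralizer ({z} : Set G) ∧ ∀ f ∈ Phi z x, m * f * m⁻¹ * f⁻¹ ∈ zpowers z}
  one_mem' := ⟨one_mem _, fun f _ => by
    have e : 1 * f * (1 : G)⁻¹ * f⁻¹ = 1 := by group
    rw [e]
    exact one_mem _⟩
  mul_mem' := by
    rintro m n ⟨hm, hm1⟩ ⟨hn, hn1⟩
    refine ⟨mul_mem hm hn, fun f hf => ?_⟩
    have e : m * n * f * (m * n)⁻¹ * f⁻¹ = (m * (n * f * n⁻¹ * f⁻¹) * m⁻¹) * (m * f * m⁻¹ * f⁻¹) := by group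
    rw [e, h.zpM hm (hn1 f hf)]
    exact mul_mem (hn1 f hf) (hm1 f hf)
  inv_mem' := by
    rintro m ⟨hm, hm1⟩
    refine ⟨inv_mem hm, fun f hf => ?_⟩
    have h1 := h.zpM (inv_mem hm) (inv_mem (hm1 f hf))
    have e : m⁻¹ * (m * f * m⁻¹ * f⁻¹)⁻¹ * m⁻¹⁻¹ = m⁻¹ * f * m⁻¹⁻¹ * f⁻¹ := by group
    rw [← e, h1]
    exact inv_mem (hm1 f hf)

theorem FF_le : h.FF ≤ centralizer ({z} : Set G) := fun _ hm => hm.1

theorem M_le_FF : centralizer ({z} : Set G) ≤ normalizer (h.FF : Set G) := by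
  intro m hm
  have key : ∀ m ∈ centralizer ({z} : Set G), ∀ y ∈ h.FF, m * y * m⁻¹ ∈ h.FF := by
    rintro m hm y ⟨hy, hy1⟩
    refine ⟨mul_mem (mul_mem hm hy) (inv_mem hm), fun f hf => ?_⟩
    have hf' : m⁻¹ * f * m ∈ Phi z x := by
      have := (mem_normalizer_iff.1 (h.nP (inv_mem hm)) f).1 hf
      rwa [inv_inv] at this
    have h1 := hy1 _ hf'
    have e : m * y * m⁻¹ * f * (m * y * m⁻¹)⁻¹ * f⁻¹ = m * (y * (m⁻¹ * f * m) * y⁻¹ * (m⁻¹ * f * m)⁻¹) * m⁻¹ := by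
      group
    rw [e, h.zpM hm h1]
    exact h1
  rw [mem_normalizer_iff]
  intro y
  refine ⟨key m hm y, fun hy => ?_⟩
  have h1 := key m⁻¹ (inv_mem hm) _ hy
  have e : m⁻¹ * (m * y * m⁻¹) * m⁻¹⁻¹ = y := by group
  rwa [e] at h1

/-- `O ∩ C_M(Φ/⟨z⟩) ≤ Q` -/
theorem inf_FF [Finite G] : o2 (centralizer ({x, z} : Set G)) ⊓ h.FF ≤ o2 (centralizer ({z} : Set G)) := by
  have h1 : o2 (centralizer ({x, z} : Set G)) ⊓ h.FF ≤ o2 h.FF := by
    refine le_o2 inf_le_right ((o2_isPGroup _).to_le inf_le_left) ?_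
    intro m hm
    exact inf_normalizer_le_normalizer_inf ⟨h.norm_O hm.1 (hm.2 x h.xP), Subgroup.le_normalizer hm⟩
  exact h1.trans (ELV.o2_le_o2_normal h.FF_le h.M_le_FF)

/-- elements which centralise `U / Φ` normalise `F` and centralise `Φ / ⟨z⟩` -/
theorem cent_of_comm [Finite G] {a : G} (ha : a ∈ centralizer ({z} : Set G))
    (ha' : ∀ u ∈ U, a * u * a⁻¹ * u⁻¹ ∈ Phi z x) : ∀ f ∈ Phi z x, a * f * a⁻¹ * f⁻¹ ∈ zpowers z := by
  set B : Set G := {m | m ∈ centralizer ({z} : Set G) ∧ ∀ u ∈ U, m * u * m⁻¹ * u⁻¹ ∈ Phi z x} with hB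
  have hBn : ∀ m ∈ centralizer ({z} : Set G), ∀ b ∈ B, m⁻¹ * b * m ∈ B := by
    rintro m hm b ⟨hb, hb1⟩
    refine ⟨mul_mem (mul_mem (inv_mem hm) hb) hm, fun u hu => ?_⟩
    have hu' : m * u * m⁻¹ ∈ U := (mem_normalizer_iff.1 (h.UM hm) u).1 hu
    have h1 := (mem_normalizer_iff.1 (h.nP (inv_mem hm)) _).1 (hb1 _ hu')
    have e : m⁻¹ * (b * (m * u * m⁻¹) * b⁻¹ * (m * u * m⁻¹)⁻¹) * m⁻¹⁻¹ =
        m⁻¹ * b * m * u * (m⁻¹ * b * m)⁻¹ * u⁻¹ := by group
    rwa [e] at h1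
  -- `B` normalises `F`
  have hBF : ∀ b ∈ B, b ∈ normalizer (F : Set G) := by
    rintro b ⟨hb, hb1⟩
    have h1 : F ≤ cj b⁻¹ F := by
      refine h.Fq _ ?_ ?_
      · rw [mem_cj, inv_inv, h.zM hb]
        exact h.zF
      · intro q hq v hv
        rw [mem_cj, inv_inv]
        have hq' := h.nQ hb hq
        set f := b * v * b⁻¹ * v⁻¹ with hf
        have hfP : f ∈ Phi z x := hb1 v (h.VU hv)
        have e1 : b * v * b⁻¹ = f * v := by rw [hf]; group
        have e : b * (q * v * q⁻¹ * v⁻¹) * b⁻¹ =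
            (b * q * b⁻¹) * (b * v * b⁻¹) * (b * q * b⁻¹)⁻¹ * (b * v * b⁻¹)⁻¹ := by group
        rw [e, e1]
        set q' := b * q * b⁻¹ with hq'd
        have e2 : q' * (f * v) * q'⁻¹ * (f * v)⁻¹ = (q' * f * q'⁻¹ * f⁻¹) * (f * (q' * v * q'⁻¹ * v⁻¹) * f⁻¹) := by
          group
        have h2 : q' * v * q'⁻¹ * v⁻¹ ∈ F := h.qV q' hq' v hv
        rw [e2, h.Uc f (h.PU hfP) _ (h.VU (h.FV h2)), mul_inv_cancel_right]
        refine mul_mem ?_ h2
        rcases h.mem_zp.1 (h.comm_PQ q' hq' f hfP) with e3 | e3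
        · rw [e3]
          exact one_mem _
        · rw [e3]
          exact h.zF
    have h2 : cj b F ≤ F := by
      have h3 := cj_mono b h1
      rwa [cj_cj_inv] at h3
    exact mem_normalizer_of_cj_le h2
  -- `B` fixes `x` modulo `⟨z⟩`
  have hBx : ∀ b ∈ B, b * x * b⁻¹ * x⁻¹ ∈ zpowers z := by
    intro b hb
    obtain ⟨d, hd, hdF⟩ := h.mv
    have hdM := h.X_le_M hd
    have h1 := hBF b hb
    have h2 := hBF _ (hBn d hdM b hb)
    have h3 : b * x * b⁻¹ ∈ F := (mem_normalizer_iff.1 h1 x).1 h.xF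
    have h4 : d⁻¹ * (b * x * b⁻¹) * d ∈ F := by
      have h5 := (mem_normalizer_iff.1 h2 x).1 h.xF
      have e1 : d * x = x * d := (h.mem_X.1 hd).1
      have e : d⁻¹ * b * d * x * (d⁻¹ * b * d)⁻¹ = d⁻¹ * (b * (d * x * d⁻¹) * b⁻¹) * d := by group
      rw [e, e1, mul_inv_cancel_right] at h5
      exact h5
    rcases h.mem_D.1 (h.inter hd hdF h3 h4) with h5 | h5
    · exfalso
      apply h.xn
      have h6 := h.zpM (inv_mem hb.1) h5
      have e : b⁻¹ * (b * x * b⁻¹) * b⁻¹⁻¹ = x := by group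
      rw [e] at h6
      rw [h6]
      exact h5
    · exact h5
  exact h.comm_Phi hBn (fun b hb => hb.1) hBx a ⟨ha, ha'⟩

/-- the hypothesis of `sq_le` -/
theorem lines [Finite G] {A₀ : Subgroup G} (hAQ : A₀ ≤ o2 (centralizer ({z} : Set G)))
    (quad : ∀ a ∈ A₀, ∀ b ∈ A₀, ∀ w ∈ U, a * (b * w * b⁻¹ * w⁻¹) * a⁻¹ = b * w * b⁻¹ * w⁻¹) :
    ∀ B : Subgroup G, B ≤ A₀ → ¬ B ≤ centralizer (U : Set G) → ∃ B₁ : Subgroup G, B₁ ≤ B ∧
      B ⊓ centralizer (U : Set G) ≤ B₁ ∧ B₁.relIndex B = 2 ∧ ∃ v ∈ U, ∃ w ∈ U,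
        (∀ b ∈ B₁, b * v * b⁻¹ * v⁻¹ ∈ zpowers z) ∧ (∀ b ∈ B₁, b * w * b⁻¹ * w⁻¹ ∈ zpowers z) ∧
        ∃ b ∈ B, b * v * b⁻¹ * v⁻¹ ∉ zpowers z ∧ b * w * b⁻¹ * w⁻¹ ∉ zpowers z ∧
          b * (v * w) * b⁻¹ * (v * w)⁻¹ ∉ zpowers z := by
  intro B hBA hB
  obtain ⟨g, hg, b₀, hb₀, hne⟩ : ∃ g ∈ centralizer ({z} : Set G), ∃ b ∈ B, b * (g * x * g⁻¹) ≠ (g * x * g⁻¹) * b := by
    by_contra hcon
    push Not at hcon
    apply hB
    intro b hb
    rw [mem_centralizer_iff]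
    exact fun u hu => (h.cent_U (hAQ (hBA hb)) (fun g hg => hcon g hg b hb) u hu).symm
  obtain ⟨d, hd, hdF⟩ := h.mv
  have hdM := h.X_le_M hd
  obtain ⟨v, hv, hvF⟩ := h.ne
  have hBQ : B ≤ o2 (centralizer ({z} : Set G)) := hBA.trans hAQ
  have hxg : g * x * g⁻¹ ∈ U := (mem_normalizer_iff.1 (h.UM hg) x).1 h.xU
  have hxP : g * x * g⁻¹ ∈ Phi z x := (mem_normalizer_iff.1 (h.nP hg) x).1 h.xP
  -- moving `x`
  have hiff : ∀ {k : G}, k ∈ centralizer ({z} : Set G) → k * x * k⁻¹ = g * x * g⁻¹ → ∀ {b : G},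
      (b * (g * x * g⁻¹) = (g * x * g⁻¹) * b ↔ (k⁻¹ * b * k) * x = x * (k⁻¹ * b * k)) := by
    intro k _ hk b
    rw [← hk]
    constructor
    · intro e
      calc k⁻¹ * b * k * x = k⁻¹ * (b * (k * x * k⁻¹)) * k := by group
        _ = k⁻¹ * (k * x * k⁻¹ * b) * k := by rw [e]
        _ = x * (k⁻¹ * b * k) := by group
    · intro e
      calc b * (k * x * k⁻¹) = k * (k⁻¹ * b * k * x) * k⁻¹ := by group
        _ = k * (x * (k⁻¹ * b * k)) * k⁻¹ := by rw [e]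
        _ = k * x * k⁻¹ * b := by group
  -- `B₁` centralises `v^k`
  have hcen : ∀ {k : G}, k ∈ centralizer ({z} : Set G) → k * x * k⁻¹ = g * x * g⁻¹ → ∀ b ∈ B,
      b * (g * x * g⁻¹) = (g * x * g⁻¹) * b → b * (k * v * k⁻¹) * b⁻¹ * (k * v * k⁻¹)⁻¹ ∈ zpowers z := by
    intro k hkM hk b hb hbx
    have h1 := (hiff hkM hk).1 hbx
    have h2 : (k⁻¹ * b₀ * k) * x ≠ x * (k⁻¹ * b₀ * k) := fun e => hne ((hiff hkM hk).2 e)
    have h3 : k⁻¹ * b * k * v * (k⁻¹ * b * k)⁻¹ * v⁻¹ = 1 := by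
      by_contra h3
      have h4 := h.L2 _ (h.nQ' hkM (hBQ hb)) _ (h.nQ' hkM (hBQ hb₀)) h1 h2 v hv hvF h3
      apply h4
      have hkv : k * v * k⁻¹ ∈ U := (mem_normalizer_iff.1 (h.UM hkM) v).1 (h.VU hv)
      have h5 := quad b₀ (hBA hb₀) b (hBA hb) _ hkv
      rw [cj_comm'] at h5
      set c := k⁻¹ * b * k * v * (k⁻¹ * b * k)⁻¹ * v⁻¹
      have h6 : b₀ * (k * c * k⁻¹) = (k * c * k⁻¹) * b₀ := by
        rw [← mul_inv_eq_iff_eq_mul]
        exact h5
      calc k⁻¹ * b₀ * k * c = k⁻¹ * (b₀ * (k * c * k⁻¹)) * k := by group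
        _ = k⁻¹ * (k * c * k⁻¹ * b₀) * k := by rw [h6]
        _ = c * (k⁻¹ * b₀ * k) := by group
    rw [cj_comm', h3]
    have e : k * 1 * k⁻¹ = 1 := by group
    rw [e]
    exact one_mem _
  -- `b₀` moves `v^k` out of `D^k`
  have hnot : ∀ {k : G}, k ∈ centralizer ({z} : Set G) → k * x * k⁻¹ = g * x * g⁻¹ →
      k⁻¹ * b₀ * k * v * (k⁻¹ * b₀ * k)⁻¹ * v⁻¹ ∉ closure ({x, z} : Set G) := by
    intro k hkM hk
    exact h.L1 _ (h.nQ' hkM (hBQ hb₀)) (fun e => hne ((hiff hkM hk).2 e)) v hv hvF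
  have hnot' : ∀ {k : G}, k ∈ centralizer ({z} : Set G) → k * x * k⁻¹ = g * x * g⁻¹ →
      b₀ * (k * v * k⁻¹) * b₀⁻¹ * (k * v * k⁻¹)⁻¹ ∉ zpowers z := by
    intro k hkM hk h1
    apply hnot hkM hk
    rw [cj_comm'] at h1
    have h2 := h.zpM (inv_mem hkM) h1
    set c := k⁻¹ * b₀ * k * v * (k⁻¹ * b₀ * k)⁻¹ * v⁻¹
    have e : k⁻¹ * (k * c * k⁻¹) * k⁻¹⁻¹ = c := by group
    rw [e] at h2
    rw [h.mem_D]
    left
    rw [h2]
    exact h1
  have hgd : g * d ∈ centralizer ({z} : Set G) := mul_mem hg hdM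
  have hgdx : g * d * x * (g * d)⁻¹ = g * x * g⁻¹ := by
    have e1 : d * x = x * d := (h.mem_X.1 hd).1
    have e : g * d * x * (g * d)⁻¹ = g * (d * x * d⁻¹) * g⁻¹ := by group
    rw [e, e1, mul_inv_cancel_right]
  refine ⟨B ⊓ centralizer ({g * x * g⁻¹} : Set G), inf_le_left, ?_, ?_, g * v * g⁻¹, ?_, g * d * v * (g * d)⁻¹, ?_,
    ?_, ?_, b₀, hb₀, hnot' hg rfl, hnot' hgd hgdx, ?_⟩
  · exact inf_le_inf_left _ (centralizer_le (Set.singleton_subset_iff.2 hxg))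
  · rw [relIndex_eq_two_iff]
    refine ⟨b₀, hb₀, fun b hb => ?_⟩
    have hZ : ∀ b ∈ B, b * (g * x * g⁻¹) * b⁻¹ = g * x * g⁻¹ ∨ b * (g * x * g⁻¹) * b⁻¹ = z * (g * x * g⁻¹) := by
      intro b hb
      rcases h.mem_zp.1 (h.comm_PQ b (hBQ hb) _ hxP) with e | e
      · left
        exact mul_inv_eq_one.1 e
      · right
        exact mul_inv_eq_iff_eq_mul.1 e
    have hm : ∀ b ∈ B, (b ∈ B ⊓ centralizer ({g * x * g⁻¹} : Set G) ↔ b * (g * x * g⁻¹) * b⁻¹ = g * x * g⁻¹) := by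
      intro b hb
      rw [mem_inf, mem_centralizer_singleton_iff, mul_inv_eq_iff_eq_mul]
      exact and_iff_right hb
    have hz1 : z ≠ 1 := by
      intro hz
      apply hne
      rcases hZ b₀ hb₀ with e | e
      · exact mul_inv_eq_iff_eq_mul.1 e
      · rw [hz, one_mul] at e
        exact mul_inv_eq_iff_eq_mul.1 e
    have hb₀' : b₀ * (g * x * g⁻¹) * b₀⁻¹ = z * (g * x * g⁻¹) := by
      rcases hZ b₀ hb₀ with e | e
      · exact absurd (mul_inv_eq_iff_eq_mul.1 e) hne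
      · exact e
    rw [hm _ (mul_mem hb hb₀), hm _ hb]
    have e1 : b * b₀ * (g * x * g⁻¹) * (b * b₀)⁻¹ = b * (b₀ * (g * x * g⁻¹) * b₀⁻¹) * b⁻¹ := by group
    have hbz : b * z * b⁻¹ = z := h.zM (h.QM (hBQ hb))
    have e2 : b * (z * (g * x * g⁻¹)) * b⁻¹ = (b * z * b⁻¹) * (b * (g * x * g⁻¹) * b⁻¹) := by group
    rw [e1, hb₀', e2, hbz]
    rcases hZ b hb with e | e
    · rw [e]
      right
      refine ⟨rfl, fun e3 => hz1 ?_⟩
      exact mul_eq_right.1 e3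
    · rw [e]
      left
      refine ⟨?_, fun e3 => hz1 (mul_eq_right.1 e3)⟩
      rw [← mul_assoc, h.z2, one_mul]
  · exact (mem_normalizer_iff.1 (h.UM hg) v).1 (h.VU hv)
  · exact (mem_normalizer_iff.1 (h.UM hgd) v).1 (h.VU hv)
  · exact fun b hb => hcen hg rfl b hb.1 (mem_centralizer_singleton_iff.1 hb.2)
  · exact fun b hb => hcen hgd hgdx b hb.1 (mem_centralizer_singleton_iff.1 hb.2)
  · intro hc
    set v₁ := g * v * g⁻¹ with hv₁
    set v₂ := g * d * v * (g * d)⁻¹ with hv₂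
    have hv₁U : v₁ ∈ U := (mem_normalizer_iff.1 (h.UM hg) v).1 (h.VU hv)
    have hv₂U : v₂ ∈ U := (mem_normalizer_iff.1 (h.UM hgd) v).1 (h.VU hv)
    have hbU : b₀ ∈ normalizer (U : Set G) := h.UM (h.QM (hBQ hb₀))
    set c₁ := b₀ * v₁ * b₀⁻¹ * v₁⁻¹ with hc₁
    set c₂ := b₀ * v₂ * b₀⁻¹ * v₂⁻¹ with hc₂
    have hc₂U : c₂ ∈ U := mul_mem ((mem_normalizer_iff.1 hbU v₂).1 hv₂U) (inv_mem hv₂U)
    have e : b₀ * (v₁ * v₂) * b₀⁻¹ * (v₁ * v₂)⁻¹ = c₁ * (v₁ * c₂ * v₁⁻¹) := by rw [hc₁, hc₂]; group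
    rw [e, h.Uc v₁ hv₁U c₂ hc₂U, mul_inv_cancel_right] at hc
    -- `c₁ ∈ F^g`, `c₂ ∈ F^{gd}`
    have f1 : g⁻¹ * c₁ * g ∈ F := by
      have e1 : g⁻¹ * c₁ * g = g⁻¹ * b₀ * g * v * (g⁻¹ * b₀ * g)⁻¹ * v⁻¹ := by rw [hc₁, hv₁]; group
      rw [e1]
      exact h.qV _ (h.nQ' hg (hBQ hb₀)) v hv
    have f2 : (g * d)⁻¹ * c₂ * (g * d) ∈ F := by
      have e1 : (g * d)⁻¹ * c₂ * (g * d) = (g * d)⁻¹ * b₀ * (g * d) * v * ((g * d)⁻¹ * b₀ * (g * d))⁻¹ * v⁻¹ := by
        rw [hc₂, hv₂]; group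
      rw [e1]
      exact h.qV _ (h.nQ' hgd (hBQ hb₀)) v hv
    have f3 : (g * d)⁻¹ * c₁ * (g * d) ∈ F := by
      have h1 := h.zpM (inv_mem hgd) hc
      have e1 : (g * d)⁻¹ * c₁ * (g * d) = ((g * d)⁻¹ * (c₁ * c₂) * (g * d)⁻¹⁻¹) * ((g * d)⁻¹ * c₂ * (g * d))⁻¹ := by
        group
      rw [e1, h1]
      refine mul_mem ?_ (inv_mem f2)
      rcases h.mem_zp.1 hc with e2 | e2
      · rw [e2]
        exact one_mem _
      · rw [e2]
        exact h.zF
    have f4 : d⁻¹ * (g⁻¹ * c₁ * g) * d ∈ F := by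
      have e1 : d⁻¹ * (g⁻¹ * c₁ * g) * d = (g * d)⁻¹ * c₁ * (g * d) := by group
      rw [e1]
      exact f3
    have f5 := h.inter hd hdF f1 f4
    apply hnot hg rfl
    have e1 : g⁻¹ * b₀ * g * v * (g⁻¹ * b₀ * g)⁻¹ * v⁻¹ = g⁻¹ * c₁ * g := by rw [hc₁, hv₁]; group
    rw [e1]
    exact f5

/-- `U ≤ O` -/
theorem U_le_O [Finite G] : U ≤ o2 (centralizer ({x, z} : Set G)) := by
  refine le_o2 h.U_le_X ?_ (h.X_le_M.trans h.UM)
  intro u
  refine ⟨1, Subtype.ext ?_⟩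
  have h1 := h.Us u u.2
  change (u : G) ^ 2 ^ 1 = 1
  rw [pow_one, pow_two, h1]

/-- **no elementary abelian subgroup of `O` offends on `U`** -/
theorem no_off [Finite G] (hML : MLK.{u, u}) {A : Subgroup G} (hA : A ≤ o2 (centralizer ({x, z} : Set G)))
    (hA2 : ∀ a ∈ A, a * a = 1) : ¬ Offd U A := by
  intro hoff
  obtain ⟨B, hBA, hB, hbest⟩ := exists_best hA2 hoff
  have hBO := hBA.trans hA
  have hBX : B ≤ centralizer ({x, z} : Set G) := hBO.trans (o2_le _)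
  have hBM : B ≤ centralizer ({z} : Set G) := hBX.trans h.X_le_M
  have quad := best_quad hB.norm h.Uc h.Us hbest
  have hZ2 : ∀ {m : G}, m ∈ centralizer ({z} : Set G) → m ∈ normalizer ((zpowers z : Subgroup G) : Set G) := by
    intro m hm
    rw [mem_normalizer_iff]
    intro c
    refine ⟨fun hc => by rw [h.zpM hm hc]; exact hc, fun hc => ?_⟩
    have h1 := h.zpM (inv_mem hm) hc
    have e : m⁻¹ * (m * c * m⁻¹) * m⁻¹⁻¹ = c := by group
    rw [e] at h1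
    rw [h1]
    exact hc
  set A₀ : Subgroup G := B ⊓ h.FF with hA₀
  have hA₀Q : A₀ ≤ o2 (centralizer ({z} : Set G)) := (inf_le_inf_right _ hBO).trans h.inf_FF
  have hA₀A : A₀ ≤ B := inf_le_left
  have hc0 : B ⊓ centralizer (U : Set G) ≤ A₀ := by
    rintro b ⟨hb, hb'⟩
    refine ⟨hb, hBM hb, fun f hf => ?_⟩
    have h1 : b * f = f * b := (mem_centralizer_iff.1 hb' f (h.PU hf)).symm
    rw [h1, mul_inv_cancel_right, mul_inv_cancel]
    exact one_mem _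
  -- (ML) on `Φ / ⟨z⟩`
  have hZP := h.ZP
  have hPc : ∀ a ∈ Phi z x, ∀ b ∈ Phi z x, a * b = b * a := fun a ha b hb => h.Uc a (h.PU ha) b (h.PU hb)
  have no : A₀.relIndex B ≤ (centralizer (B : Set G)).relIndex (Phi z x) := by
    have key := hML.grp h.KG (C := centralizer ({z} : Set G)) (W := Phi z x) (Y := zpowers z) (T := S)
      (Q := o2 (centralizer ({x, z} : Set G))) (A := B) (w := x) (KA := A₀) (CW := KK (Phi z x) (zpowers z) B)
      { nW := h.nP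
        nY := fun m hm => hZ2 hm
        YW := hZP
        WY := fun f hf => hZ2 (h.PM hf)
        sq := fun f hf => by rw [h.Us f (h.PU hf)]; exact one_mem _
        mem := h.xP
        gen := fun W hx hz hM => ML.GMod.hul_le_of (by
          rw [closure_le]
          rintro y (rfl | hy)
          · exact hx
          · rw [Set.mem_singleton_iff.1 hy]
            exact hz (mem_zpowers z)) hM
        TC := h.SM
        two := h.S2
        odd := h.Sodd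
        fixT := h.Sx
        QC := (o2_le _).trans h.X_le_M
        Q2 := o2_isPGroup _
        fixQ := fun q hq => by
          have h1 := (h.mem_X.1 (o2_le _ hq)).1
          rw [h1, mul_inv_cancel_right, mul_inv_cancel]
          exact one_mem _
        nrmQ := fun g hg hgx q hq => (mem_normalizer_iff.1 (h.norm_O hg hgx) q).1 hq
        AQ := hBO
        Asq := fun a ha y _ => by
          have e : a * (a * y * a⁻¹) * a⁻¹ * y⁻¹ = (a * a) * y * (a * a)⁻¹ * y⁻¹ := by group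
          rw [e, hA2 a (hBA ha)]
          have e2 : 1 * y * (1 : G)⁻¹ * y⁻¹ = 1 := by group
          rw [e2]
          exact one_mem _ }
      (fun a => by
        constructor
        · rintro ⟨ha, ha'⟩
          exact ⟨ha, ha'.2⟩
        · rintro ⟨ha, ha'⟩
          exact ⟨ha, hBM ha, ha'⟩)
      (fun y => mem_KK hPc (hBM.trans h.nP) hZP)
    refine key.trans ?_
    rw [← inf_relIndex_left (Phi z x) (centralizer (B : Set G))]
    refine relIndex_le_of_le_left ?_ index_ne_zero_of_finite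
    intro f hf
    refine (mem_KK hPc (hBM.trans h.nP) hZP).2 ⟨hf.1, fun b hb => ?_⟩
    have h1 : b * f = f * b := mem_centralizer_iff.1 hf.2 b hb
    rw [h1, mul_inv_cancel_right, mul_inv_cancel]
    exact one_mem _
  have hsq := sq_le (A₀ := A₀) h.Us h.Uc (hA₀A.trans hB.norm) h.ZU
    (h.lines hA₀Q fun a ha b hb => quad a (hA₀A ha) b (hA₀A hb)) A₀ le_rfl
  obtain ⟨h1, h2⟩ := cnt h.Uc hB.norm h.ZU h.PU hA₀A hc0 (fun a ha f hf => ha.2.2 f hf) no hB.le hsq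
  apply hB.mov
  intro b hb
  refine h1 ⟨hb, hBM hb, h.cent_of_comm (hBM hb) fun u hu => ?_⟩
  have hu2 : u ∈ ((Phi z x ⊔ (U ⊓ centralizer (B : Set G)) : Subgroup G) : Set G) := h2 hu
  have hn : Phi z x ≤ normalizer ((U ⊓ centralizer (B : Set G) : Subgroup G) : Set G) := by
    intro f hf
    rw [mem_normalizer_iff]
    intro y
    have hfU := h.PU hf
    constructor
    · intro hy
      rw [h.Uc f hfU y hy.1, mul_inv_cancel_right]
      exact hy
    · intro hy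
      have h3 := h.Uc f hfU _ hy.1
      have e : f * y * f⁻¹ = y := by
        have e1 : f * (f * y * f⁻¹) = f * y := by rw [h3]; group
        exact mul_left_cancel e1
      rwa [e] at hy
  rw [coe_mul_of_left_le_normalizer_right _ _ hn] at hu2
  obtain ⟨f, hf, c, hc, rfl⟩ := hu2
  have h3 : b * c = c * b := mem_centralizer_iff.1 hc.2 b hb
  have hbf : b * f * b⁻¹ ∈ Phi z x := (mem_normalizer_iff.1 (h.nP (hBM hb)) f).1 hf
  have e : b * (f * c) * b⁻¹ * (f * c)⁻¹ = (b * f * b⁻¹) * (b * c * b⁻¹) * c⁻¹ * f⁻¹ := by group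
  have e2 : b * c * b⁻¹ = c := by rw [h3, mul_inv_cancel_right]
  change b * (f * c) * b⁻¹ * (f * c)⁻¹ ∈ Phi z x
  rw [e, e2, mul_inv_cancel_right]
  exact mul_mem hbf (inv_mem hf)

/-- **`J(O₂(X))` centralises `U`** -/
theorem cent [Finite G] (hML : MLK.{u, u}) : jj (o2 (centralizer ({x, z} : Set G))) ≤ centralizer (U : Set G) := by
  have hU : IsElementaryAbelian 2 U := by
    refine ⟨⟨⟨fun a b => Subtype.ext (h.Uc a a.2 b b.2)⟩⟩, fun a ha => ?_⟩
    rw [pow_two, h.Us a ha]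
  rw [jj_eq]
  refine sSup_le fun A hA => ?_
  by_contra hcon
  refine h.no_off hML (A := A) hA.2.1 (fun a ha => ?_)
    (EK3.Rank.offd_of_mem hU h.U_le_O hA ((hA.2.1.trans (o2_le _)).trans (h.X_le_M.trans h.UM)) le_rfl hcon)
  have h1 := hA.1.2 a ha
  rwa [pow_two] at h1

/-- **CLAIM 1** -/
theorem claim [Finite G] (hML : MLK.{u, u}) :
    centralizer ({z} : Set G) ≤ normalizer (jj (o2 (centralizer ({x, z} : Set G))) : Set G) ∧
      jj (o2 (centralizer ({x, z} : Set G))) ≤ centralizer (V : Set G) := by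
  have h0 := h.cent hML
  refine ⟨?_, h0.trans (centralizer_le h.VU)⟩
  have hCX : centralizer (U : Set G) ≤ centralizer ({x, z} : Set G) := by
    refine centralizer_le ?_
    rintro y (rfl | hy)
    · exact h.xU
    · rw [Set.mem_singleton_iff.1 hy]
      exact h.zU
  have hXC : centralizer ({z} : Set G) ≤ normalizer (centralizer (U : Set G) : Set G) :=
    h.UM.trans (ML.GMod.nc U)
  have h1 : o2 (centralizer (U : Set G)) ≤ o2 (centralizer ({x, z} : Set G)) :=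
    ELV.o2_le_o2_normal hCX (h.X_le_M.trans hXC)
  have h2 : jj (o2 (centralizer ({x, z} : Set G))) ≤ o2 (centralizer (U : Set G)) := by
    have h3 : o2 (centralizer ({x, z} : Set G)) ⊓ centralizer (U : Set G) ≤ o2 (centralizer (U : Set G)) := by
      refine le_o2 inf_le_right ((o2_isPGroup _).to_le inf_le_left) ?_
      intro m hm
      exact inf_normalizer_le_normalizer_inf ⟨le_normalizer_o2 _ (hCX hm), Subgroup.le_normalizer hm⟩
    exact (le_inf (jj_le _) h0).trans h3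
  have h3 : jj (o2 (centralizer (U : Set G))) = jj (o2 (centralizer ({x, z} : Set G))) := jj_eq_of_jj_le h2 h1
  rw [← h3]
  exact (hXC.trans (ML.GMod.normalizer_le_normalizer_o2 _)).trans (normalizer_le_jj _)

end basic

end Dat1

end Cfsg.Agent.Omega.NO3S.V4
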