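import Cfsg.Agent.Omega.EK3.Rank
import Cfsg.Agent.Omega.NO3S.SN.ROne.Best

/-!
# THEOREM V4 (helper537 #25093), CLAIM 1: the count

`U` elementary abelian, `Z ≤ U`, `KK U Z B = {u ∈ U : [B, u] ≤ Z}`.

* `mem_KK`;
* `four_le` : `v₁, v₂, v₁v₂ ∈ H \ K` implies `|H : K| ≥ 4`;
* `sq_le` : if every `B ≤ A₀` which moves `U` has a subgroup `B₁ ≥ C_B(U)` of index 2 and `v₁, v₂ ∈ U` with
  `[B₁, vᵢ] ≤ Z` and `[b, v₁], [b, v₂], [b, v₁v₂] ∉ Z` for some `b ∈ B`, then `|B : C_B(U)|² ≤ |U : KK U Z B|`;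
* `cnt` : the count of CLAIM 1;
* `exists_best` : an offender contains a minimal best offender (`R1.Best`).
-/

set_option autoImplicit false
set_option linter.unusedSectionVars false

namespace Cfsg.Agent.Omega.NO3S.V4

open Subgroup Cfsg
open Cfsg.Agent.Omega.NO3S.EThree (Offd)
open Cfsg.Agent.Omega.NO3S.SN.ROne (cen_mul fix_mul relIndex_sup_of_comm)
open Cfsg.Agent.Omega.NO3S.SN.R1 (Best)

universe u

variable {G : Type u} [Group G]

/-- `{u ∈ U : [B, u] ≤ Z}` -/
def KK (U Z B : Subgroup G) : Subgroup G := closure {u | u ∈ U ∧ ∀ b ∈ B, b * u * b⁻¹ * u⁻¹ ∈ Z}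

theorem mem_KK {U Z B : Subgroup G} (hc : ∀ a ∈ U, ∀ b ∈ U, a * b = b * a) (hn : B ≤ normalizer (U : Set G))
    (hZ : Z ≤ U) {u : G} : u ∈ KK U Z B ↔ u ∈ U ∧ ∀ b ∈ B, b * u * b⁻¹ * u⁻¹ ∈ Z := by
  constructor
  · intro hu
    refine closure_induction (p := fun u _ => u ∈ U ∧ ∀ b ∈ B, b * u * b⁻¹ * u⁻¹ ∈ Z) (fun x hx => hx) ?_ ?_ ?_ hu
    · refine ⟨one_mem _, fun b _ => ?_⟩
      have e : b * 1 * b⁻¹ * 1⁻¹ = 1 := by group
      rw [e]
      exact one_mem _
    · rintro x y - - ⟨hx, hx'⟩ ⟨hy, hy'⟩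
      refine ⟨mul_mem hx hy, fun b hb => ?_⟩
      have e : b * (x * y) * b⁻¹ * (x * y)⁻¹ = (b * x * b⁻¹ * x⁻¹) * (x * (b * y * b⁻¹ * y⁻¹) * x⁻¹) := by group
      rw [e, hc x hx _ (hZ (hy' b hb)), mul_inv_cancel_right]
      exact mul_mem (hx' b hb) (hy' b hb)
    · rintro x - ⟨hx, hx'⟩
      refine ⟨inv_mem hx, fun b hb => ?_⟩
      have hbx : b * x * b⁻¹ ∈ U := (mem_normalizer_iff.1 (hn hb) x).1 hx
      have e : b * x⁻¹ * b⁻¹ * x⁻¹⁻¹ = (b * x * b⁻¹)⁻¹ * x := by group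
      rw [e, hc _ (inv_mem hbx) _ hx]
      have e2 : x * (b * x * b⁻¹)⁻¹ = (b * x * b⁻¹ * x⁻¹)⁻¹ := by group
      rw [e2]
      exact inv_mem (hx' b hb)
  · exact fun h => subset_closure h

theorem KK_le {U Z B : Subgroup G} : KK U Z B ≤ U := (closure_le _).2 fun _ h => h.1

theorem KK_anti {U Z B C : Subgroup G} (h : B ≤ C) : KK U Z C ≤ KK U Z B :=
  closure_mono fun _ hu => ⟨hu.1, fun b hb => hu.2 b (h hb)⟩

variable [Finite G]

theorem two_le {K H : Subgroup G} {v : G} (hv : v ∈ H) (hvK : v ∉ K) : 2 ≤ K.relIndex H := by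
  have h0 : K.relIndex H ≠ 0 := index_ne_zero_of_finite
  have h1 : K.relIndex H ≠ 1 := fun h => hvK (relIndex_eq_one.1 h hv)
  omega

theorem four_le {K H : Subgroup G} (hKH : K ≤ H) (hs : ∀ a ∈ H, a * a = 1)
    {v w : G} (hv : v ∈ H) (hw : w ∈ H) (hvK : v ∉ K) (hwK : w ∉ K) (hvw : v * w ∉ K) : 4 ≤ K.relIndex H := by
  have hcm : ∀ a ∈ H, ∀ b ∈ H, a * b = b * a := fun a ha b hb => by
    have h1 := hs _ (mul_mem ha hb)
    have h2 := hs a ha
    have h3 := hs b hb
    have e : a * b = a * (a * b * (a * b)) * b := by rw [h1]; group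
    calc a * b = a * (a * b * (a * b)) * b := e
      _ = (a * a) * (b * a) * (b * b) := by group
      _ = b * a := by rw [h2, h3]; group
  set K₁ : Subgroup G := K ⊔ zpowers v with hK₁
  have hK₁H : K₁ ≤ H := sup_le hKH (by rw [zpowers_le]; exact hv)
  have h1 : 2 ≤ K.relIndex K₁ := two_le (mem_sup_right (mem_zpowers v)) hvK
  have hwK₁ : w ∉ K₁ := by
    intro hw1
    have hK₁' : K₁ ≤
        { carrier := {g | g ∈ H ∧ (g ∈ K ∨ v * g ∈ K)}
          one_mem' := ⟨one_mem _, Or.inl (one_mem _)⟩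
          mul_mem' := by
            rintro a b ⟨ha, ha'⟩ ⟨hb, hb'⟩
            refine ⟨mul_mem ha hb, ?_⟩
            rcases ha' with ha' | ha' <;> rcases hb' with hb' | hb'
            · exact Or.inl (mul_mem ha' hb')
            · right
              have e : v * (a * b) = a * (v * b) := by rw [← mul_assoc, hcm v hv a ha, mul_assoc]
              rw [e]
              exact mul_mem ha' hb'
            · right
              rw [← mul_assoc]
              exact mul_mem ha' hb'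
            · left
              have e : a * b = (v * a) * (v * b) := by
                have h2 := hs v hv
                calc a * b = (v * v) * (a * b) := by rw [h2, one_mul]
                  _ = v * (v * a) * b := by group
                  _ = v * (a * v) * b := by rw [hcm v hv a ha]
                  _ = (v * a) * (v * b) := by group
              rw [e]
              exact mul_mem ha' hb'
          inv_mem' := by
            rintro a ⟨ha, ha'⟩
            have e : a⁻¹ = a := inv_eq_of_mul_eq_one_right (hs a ha)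
            rw [e]
            exact ⟨ha, ha'⟩ : Subgroup G } := by
      refine sup_le (fun k hk => ⟨hKH hk, Or.inl hk⟩) ?_
      rw [zpowers_le]
      exact ⟨hv, Or.inr (by rw [hs v hv]; exact one_mem _)⟩
    rcases (hK₁' hw1).2 with h | h
    · exact hwK h
    · exact hvw h
  have h2 : 2 ≤ K₁.relIndex H := two_le hw hwK₁
  rw [← relIndex_mul_relIndex K K₁ H le_sup_left hK₁H]
  exact Nat.mul_le_mul h1 h2

theorem sq_le {U Z A₀ : Subgroup G} (hs : ∀ a ∈ U, a * a = 1) (hc : ∀ a ∈ U, ∀ b ∈ U, a * b = b * a)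
    (hn : A₀ ≤ normalizer (U : Set G)) (hZ : Z ≤ U)
    (hyp : ∀ B : Subgroup G, B ≤ A₀ → ¬ B ≤ centralizer (U : Set G) → ∃ B₁ : Subgroup G, B₁ ≤ B ∧
      B ⊓ centralizer (U : Set G) ≤ B₁ ∧ B₁.relIndex B = 2 ∧ ∃ v ∈ U, ∃ w ∈ U,
        (∀ b ∈ B₁, b * v * b⁻¹ * v⁻¹ ∈ Z) ∧ (∀ b ∈ B₁, b * w * b⁻¹ * w⁻¹ ∈ Z) ∧
        ∃ b ∈ B, b * v * b⁻¹ * v⁻¹ ∉ Z ∧ b * w * b⁻¹ * w⁻¹ ∉ Z ∧ b * (v * w) * b⁻¹ * (v * w)⁻¹ ∉ Z) :
    ∀ B : Subgroup G, B ≤ A₀ → (centralizer (U : Set G)).relIndex B ^ 2 ≤ (KK U Z B).relIndex U := by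
  have key : ∀ n : ℕ, ∀ B : Subgroup G, Nat.card B = n → B ≤ A₀ →
      (centralizer (U : Set G)).relIndex B ^ 2 ≤ (KK U Z B).relIndex U := by
    intro n
    induction n using Nat.strong_induction_on with
    | _ n ih =>
      intro B hB hBA
      by_cases hBc : B ≤ centralizer (U : Set G)
      · rw [relIndex_eq_one.2 hBc, one_pow]
        exact Nat.one_le_iff_ne_zero.2 index_ne_zero_of_finite
      obtain ⟨B₁, h1, h2, h3, v, hv, w, hw, hv1, hw1, b, hb, hbv, hbw, hbvw⟩ := hyp B hBA hBc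
      have hlt : Nat.card B₁ < n := by
        rw [← hB]
        refine lt_of_le_of_ne (card_le_of_le h1) fun h => ?_
        have h4 := eq_of_le_of_card_ge h1 h.ge
        rw [h4, relIndex_self] at h3
        omega
      have h4 := ih _ hlt B₁ rfl (h1.trans hBA)
      have h5 := cen_mul (W := U) h2 h1
      have hBn : B ≤ normalizer (U : Set G) := hBA.trans hn
      have h6 : 4 ≤ (KK U Z B).relIndex (KK U Z B₁) := by
        have hm := fun {u : G} => mem_KK (u := u) hc hBn hZ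
        have hm1 := fun {u : G} => mem_KK (u := u) hc (h1.trans hBn) hZ
        refine four_le (v := v) (w := w) (KK_anti h1) (fun a ha => hs a (KK_le ha)) (hm1.2 ⟨hv, hv1⟩)
          (hm1.2 ⟨hw, hw1⟩) ?_ ?_ ?_
        · exact fun h => hbv ((hm.1 h).2 b hb)
        · exact fun h => hbw ((hm.1 h).2 b hb)
        · exact fun h => hbvw ((hm.1 h).2 b hb)
      rw [← h5, h3, ← relIndex_mul_relIndex _ _ _ (KK_anti h1) (KK_le (U := U) (Z := Z) (B := B₁))]
      calc ((centralizer (U : Set G)).relIndex B₁ * 2) ^ 2 = 4 * (centralizer (U : Set G)).relIndex B₁ ^ 2 := by ring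
        _ ≤ _ := Nat.mul_le_mul h6 h4
  exact fun B hBA => key _ B rfl hBA

/-- **the count of CLAIM 1** -/
theorem cnt {U Z Φ A A₀ : Subgroup G} (hc : ∀ a ∈ U, ∀ b ∈ U, a * b = b * a)
    (hn : A ≤ normalizer (U : Set G)) (hZ : Z ≤ U) (hΦ : Φ ≤ U) (h0 : A₀ ≤ A)
    (hc0 : A ⊓ centralizer (U : Set G) ≤ A₀) (hA₀ : ∀ a ∈ A₀, ∀ f ∈ Φ, a * f * a⁻¹ * f⁻¹ ∈ Z)
    (no : A₀.relIndex A ≤ (centralizer (A : Set G)).relIndex Φ)
    (off : (centralizer (A : Set G)).relIndex U ≤ (centralizer (U : Set G)).relIndex A)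
    (key : (centralizer (U : Set G)).relIndex A₀ ^ 2 ≤ (KK U Z A₀).relIndex U) :
    A₀ ≤ centralizer (U : Set G) ∧ U ≤ Φ ⊔ (U ⊓ centralizer (A : Set G)) := by
  set W : Subgroup G := Φ ⊔ (U ⊓ centralizer (A : Set G)) with hW
  have hWU : W ≤ U := sup_le hΦ inf_le_left
  have hWK : W ≤ KK U Z A₀ := by
    refine sup_le (fun f hf => (mem_KK hc (h0.trans hn) hZ).2 ⟨hΦ hf, fun b hb => hA₀ b hb f hf⟩) ?_
    intro u hu
    refine (mem_KK hc (h0.trans hn) hZ).2 ⟨hu.1, fun b hb => ?_⟩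
    have h1 : b * u = u * b := mem_centralizer_iff.1 hu.2 b (h0 hb)
    rw [h1, mul_inv_cancel_right, mul_inv_cancel]
    exact one_mem _
  have e1 : (centralizer (A : Set G)).relIndex U = (centralizer (A : Set G)).relIndex Φ * W.relIndex U := by
    rw [← inf_relIndex_left U (centralizer (A : Set G)), ← relIndex_mul_relIndex _ W U le_sup_right hWU, hW,
      relIndex_sup_of_comm hc hΦ inf_le_left]
    congr 1
    rw [← inf_relIndex_right, ← inf_relIndex_right (centralizer (A : Set G))]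
    congr 1
    rw [inf_comm U, inf_assoc, inf_eq_right.2 hΦ]
  have e2 := cen_mul (W := U) hc0 h0
  have h3 : (KK U Z A₀).relIndex U ≤ W.relIndex U :=
    relIndex_le_of_le_left hWK index_ne_zero_of_finite
  set c := (centralizer (U : Set G)).relIndex A₀
  set a := A₀.relIndex A
  set p := (centralizer (A : Set G)).relIndex Φ
  set w := W.relIndex U
  have hc1 : 0 < c := Nat.pos_of_ne_zero index_ne_zero_of_finite
  have ha1 : 0 < a := Nat.pos_of_ne_zero index_ne_zero_of_finite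
  have hp1 : 0 < p := Nat.pos_of_ne_zero index_ne_zero_of_finite
  have h4 : p * w ≤ c * a := by
    rw [← e1, e2]
    exact off
  have h5 : c ^ 2 ≤ w := key.trans h3
  have h6 : a * c ^ 2 ≤ a * c := by
    calc a * c ^ 2 ≤ p * w := Nat.mul_le_mul no h5
      _ ≤ c * a := h4
      _ = a * c := Nat.mul_comm _ _
  have h7 : c ^ 2 ≤ c := Nat.le_of_mul_le_mul_left h6 ha1
  have h8 : c = 1 := by
    by_contra hne
    have h9 : 2 ≤ c := by omega
    have h10 : c * 2 ≤ c ^ 2 := by rw [pow_two]; exact Nat.mul_le_mul_left _ h9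
    omega
  refine ⟨relIndex_eq_one.1 h8, relIndex_eq_one.1 ?_⟩
  rw [h8, one_mul] at h4
  have h9 : p * w ≤ p * 1 := by rw [mul_one]; exact h4.trans no
  have h10 : w ≤ 1 := Nat.le_of_mul_le_mul_left h9 hp1
  have h11 : w ≠ 0 := index_ne_zero_of_finite
  omega

/-- an elementary abelian offender contains a minimal best offender -/
theorem exists_best {U A : Subgroup G} (hel : ∀ a ∈ A, a * a = 1) (h : Offd U A) :
    ∃ B : Subgroup G, B ≤ A ∧ Offd U B ∧ Best U B := by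
  obtain ⟨B, ⟨hBA, hB⟩, hmin⟩ : ∃ B : Subgroup G, (B ≤ A ∧ Offd U B) ∧
      ∀ C : Subgroup G, (C ≤ A ∧ Offd U C) → C ≤ B → C = B := by
    obtain ⟨B, hB⟩ := (Set.toFinite {B : Subgroup G | B ≤ A ∧ Offd U B}).exists_minimal ⟨A, le_rfl, h⟩
    exact ⟨B, hB.prop, fun C hC hle => le_antisymm hle (hB.le_of_le hC hle)⟩
  have hcB : ∀ a ∈ B, ∀ b ∈ B, a * b = b * a := fun a ha b hb => by
    have h1 := hel _ (hBA (mul_mem ha hb))
    have h2 := hel a (hBA ha)
    have h3 := hel b (hBA hb)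
    have e : a * b = a * (a * b * (a * b)) * b := by rw [h1]; group
    calc a * b = a * (a * b * (a * b)) * b := e
      _ = (a * a) * (b * a) * (b * b) := by group
      _ = b * a := by rw [h2, h3]; group
  refine ⟨B, hBA, hB, ⟨⟨fun a ha => ?_, fun a ha b hb => ?_⟩, hB.mov, hB.le, ?_⟩⟩
  · rw [pow_two, hel a (hBA ha)]
    exact one_mem _
  · rw [hcB a ha b hb, mul_inv_cancel_right, mul_inv_cancel]
    exact one_mem _
  · intro C hC hCB
    have h1 : ¬ Offd U C := fun h => hCB.ne (hmin C ⟨hCB.le.trans hBA, h⟩ hCB.le)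
    have hCm : ¬ C ≤ centralizer (U : Set G) := fun h => hC.not_ge (le_inf hCB.le h)
    have h2 : (centralizer (U : Set G)).relIndex C < (centralizer (C : Set G)).relIndex U := by
      by_contra hlt
      exact h1 ⟨hCB.le.trans hB.norm, hCm, not_lt.1 hlt⟩
    have h3 := cen_mul (W := U) hC.le hCB.le
    have h4 := fix_mul (W := U) hCB.le
    have h5 := hB.le
    rw [← h3, ← h4] at h5
    by_contra hlt
    have h7 : 0 < (centralizer (B : Set G)).relIndex (U ⊓ centralizer (C : Set G)) :=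
      Nat.pos_of_ne_zero index_ne_zero_of_finite
    have h8 := Nat.mul_lt_mul_of_le_of_lt (not_lt.1 hlt) h2 h7
    have h9 := lt_of_lt_of_le h8 h5
    rw [Nat.mul_comm] at h9
    exact lt_irrefl _ h9

end Cfsg.Agent.Omega.NO3S.V4
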