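import Cfsg.Agent.Omega.NO3S.SN2.BAOff
import Cfsg.Agent.Omega.NO3S.EThree.MinOff

/-!
# Thompson-Timmesfeld replacement inside an offender

* `Offd.exists_best` : an elementary abelian offender contains a best offender moving the module;
* `Offd.exists_quad` : ... and a quadratic offender.
-/

set_option autoImplicit false
set_option linter.unusedSectionVars false

namespace Cfsg.Agent.Omega.NO3S.EThree

open Subgroup Cfsg
open scoped commutatorElement

universe u

variable {G : Type u} [Group G] [Finite G] {U A : Subgroup G}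

/-- `|A : C_A(U)| |C_A(U)| = |A|` -/
theorem relIndex_mul_card_cen (A U : Subgroup G) :
    (centralizer (U : Set G)).relIndex A * Nat.card ↥(A ⊓ centralizer (U : Set G)) = Nat.card A := by
  rw [← inf_relIndex_left, mul_comm, Subgroup.relIndex,
    ← Nat.card_congr (Subgroup.subgroupOfEquivOfLe (inf_le_left : A ⊓ centralizer (U : Set G) ≤ A)).toEquiv]
  exact Subgroup.card_mul_index _

/-- the offender inequality in orders -/
theorem offd_le_iff {B : Subgroup G} :
    (centralizer (B : Set G)).relIndex U ≤ (centralizer (U : Set G)).relIndex B ↔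
      Nat.card ↥(B ⊓ centralizer (U : Set G)) * Nat.card U ≤ Nat.card B * Nat.card ↥(U ⊓ centralizer (B : Set G)) := by
  have h1 := relIndex_mul_card_cen B U
  have h2 := relIndex_mul_card_cen U B
  have p1 : 0 < Nat.card ↥(B ⊓ centralizer (U : Set G)) := Nat.card_pos
  have p2 : 0 < Nat.card ↥(U ⊓ centralizer (B : Set G)) := Nat.card_pos
  set b := Nat.card ↥(B ⊓ centralizer (U : Set G))
  set c := Nat.card ↥(U ⊓ centralizer (B : Set G))
  rw [← h1, ← h2]
  constructor
  · intro h
    calc b * ((centralizer (B : Set G)).relIndex U * c) = (centralizer (B : Set G)).relIndex U * (b * c) := by ring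
      _ ≤ (centralizer (U : Set G)).relIndex B * (b * c) := Nat.mul_le_mul_right _ h
      _ = _ := by ring
  · intro h
    refine Nat.le_of_mul_le_mul_right ?_ (Nat.mul_pos p1 p2)
    calc (centralizer (B : Set G)).relIndex U * (b * c) = b * ((centralizer (B : Set G)).relIndex U * c) := by ring
      _ ≤ _ := h
      _ = _ := by ring

/-- a best offender satisfies the offender inequality -/
theorem le_of_best {B : Subgroup G} (hb : IsBestOffenderOn 2 U B) :
    (centralizer (B : Set G)).relIndex U ≤ (centralizer (U : Set G)).relIndex B := by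
  rw [offd_le_iff]
  have h1 := hb.1 (B ⊓ centralizer (U : Set G)) inf_le_left
  have h2 : U ⊓ centralizer ((B ⊓ centralizer (U : Set G) : Subgroup G) : Set G) = U :=
    inf_eq_left.2 (le_centralizer_iff.1 inf_le_right)
  rwa [h2] at h1

/-- An elementary abelian offender contains a best offender moving the module. -/
theorem Offd.exists_best (hA : IsElementaryAbelian 2 A) (h : Offd U A) :
    ∃ B : Subgroup G, B ≤ A ∧ ¬ B ≤ centralizer (U : Set G) ∧ IsBestOffenderOn 2 U B := by
  let f : Subgroup G → ℕ := fun B => Nat.card B * Nat.card ↥(U ⊓ centralizer (B : Set G))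
  obtain ⟨B, hB, hmax⟩ := Set.Finite.exists_maximalFor f {B : Subgroup G | B ≤ A} (Set.toFinite _) ⟨A, le_refl A⟩
  have hmax' : ∀ C : Subgroup G, C ≤ A → f C ≤ f B := by
    intro C hC
    rcases le_total (f C) (f B) with h1 | h1
    · exact h1
    · exact hmax hC h1
  have hbest : ∀ C : Subgroup G, C ≤ A → f B ≤ f C → IsBestOffenderOn 2 U C := by
    intro C hC hf
    refine ⟨fun D hD => (hmax' D (hD.trans hC)).trans hf, ?_, ?_⟩
    · have : ⁅C, C⁆ = ⊥ := by
        rw [commutator_eq_bot_iff_le_centralizer]
        intro x hx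
        rw [mem_centralizer_iff]
        intro y hy
        exact congrArg Subtype.val (hA.1.1.1 (⟨y, hC hy⟩ : A) (⟨x, hC hx⟩ : A))
      rw [this]
      exact bot_le
    · intro a ha
      rw [hA.2 a (hC ha)]
      exact one_mem _
  by_cases hc : B ≤ centralizer (U : Set G)
  · refine ⟨A, le_rfl, h.mov, hbest A le_rfl ?_⟩
    have h1 := offd_le_iff.1 h.le
    have h2 : Nat.card B ≤ Nat.card ↥(A ⊓ centralizer (U : Set G)) :=
      Nat.card_le_card_of_injective (inclusion (le_inf hB hc)) (inclusion_injective _)
    have h3 : Nat.card ↥(U ⊓ centralizer (B : Set G)) ≤ Nat.card U :=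
      Nat.card_le_card_of_injective (inclusion inf_le_left) (inclusion_injective _)
    exact (Nat.mul_le_mul h2 h3).trans h1
  · exact ⟨B, hB, hc, hbest B hB le_rfl⟩

/-- **Thompson-Timmesfeld: an elementary abelian offender contains a quadratic one.** -/
theorem Offd.exists_quad (hU : IsElementaryAbelian 2 U) (hA : IsElementaryAbelian 2 A) (h : Offd U A) :
    ∃ B : Subgroup G, B ≤ A ∧ Offd U B ∧ ∀ u ∈ U, ∀ a ∈ B, ∀ b ∈ B, b * ⁅u, a⁆ = ⁅u, a⁆ * b := by
  obtain ⟨B, hBA, hne, hb⟩ := h.exists_best hA
  have hn := hBA.trans h.norm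
  obtain ⟨h1, h2⟩ := SN2.BA.bo_quad hU hn hb le_rfl hn fun hc => hne (le_centralizer_iff.1 hc)
  refine ⟨_, inf_le_left.trans hBA, ⟨inf_le_left.trans hn, fun hc => h2 (le_centralizer_iff.1 hc), le_of_best h1⟩, ?_⟩
  intro u hu a ha b hb'
  exact (mem_centralizer_iff.1 hb'.2 _ (commutator_mem_commutator hu ha.1)).symm

end Cfsg.Agent.Omega.NO3S.EThree
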