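import Cfsg.Agent.S0599

/-!
# Thompson–Timmesfeld replacement (form for CLAIM 1 of THEOREM V4, #25093)

An elementary abelian offender `A` on an elementary abelian `U` which moves `U` contains a quadratic offender
`B` which moves `U`.
-/

set_option autoImplicit false
set_option linter.unusedSectionVars false

open Subgroup Cfsg
open scoped commutatorElement

namespace Cfsg.Agent.Omega.NO3S.V4.Timm

variable {G : Type*} [Group G] [Finite G]

/-- `|B| |C_U(B)|` -/
noncomputable def ff (U B : Subgroup G) : ℕ :=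
  Nat.card B * Nat.card ↥(U ⊓ centralizer (B : Set G))

theorem exists_best {U A : Subgroup G} :
    ∃ B ≤ A, ff U A ≤ ff U B ∧ (∀ C ≤ A, ff U C ≤ ff U B) ∧ (ff U B = ff U A → B = A) := by
  classical
  by_cases h : ∀ C ≤ A, ff U C ≤ ff U A
  · exact ⟨A, le_rfl, le_rfl, h, fun _ => rfl⟩
  · push Not at h
    obtain ⟨C, hC, hlt⟩ := h
    obtain ⟨B, hB, hmax⟩ := Set.exists_max_image (Set.Iic A) (fun B => ff U B) (Set.toFinite _)
      ⟨A, Set.mem_Iic.2 le_rfl⟩
    simp only [Set.mem_Iic] at hB hmax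
    refine ⟨B, hB, hmax A le_rfl, fun D hD => hmax D hD, fun he => ?_⟩
    exact absurd (he ▸ hmax C hC) (not_le.2 hlt)

theorem inf_cent_of_le {U B : Subgroup G} (h : B ≤ centralizer (U : Set G)) :
    U ⊓ centralizer (B : Set G) = U :=
  inf_eq_left.2 (le_centralizer_iff.1 h)

/-- Thompson–Timmesfeld replacement. -/
theorem timm {U A : Subgroup G} (hU : IsElementaryAbelian 2 U) (hA : IsElementaryAbelian 2 A)
    (hN : A ≤ normalizer (U : Set G)) (hmv : ¬ A ≤ centralizer (U : Set G))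
    (hof : Nat.card U * Nat.card ↥(A ⊓ centralizer (U : Set G)) ≤
      Nat.card A * Nat.card ↥(U ⊓ centralizer (A : Set G))) :
    ∃ B ≤ A, ¬ B ≤ centralizer (U : Set G) ∧
      Nat.card U * Nat.card ↥(B ⊓ centralizer (U : Set G)) ≤
        Nat.card B * Nat.card ↥(U ⊓ centralizer (B : Set G)) ∧
      ⁅⁅U, B⁆, B⁆ = ⊥ := by
  have : Fact (Nat.Prime 2) := ⟨Nat.prime_two⟩
  obtain ⟨B, hBA, hAB, hmax, heq⟩ := exists_best (U := U) (A := A)
  -- `B` moves `U`
  have hmvB : ¬ B ≤ centralizer (U : Set G) := by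
    intro hc
    have h1 : ff U B = Nat.card U * Nat.card B := by
      rw [ff, inf_cent_of_le hc, mul_comm]
    have h2 : Nat.card B ≤ Nat.card ↥(A ⊓ centralizer (U : Set G)) :=
      Nat.card_mono (Set.toFinite _) (le_inf hBA hc)
    have h3 : ff U B ≤ ff U A := by
      rw [h1]
      exact (Nat.mul_le_mul_left _ h2).trans hof
    exact hmv (heq (le_antisymm h3 hAB) ▸ hc)
  have hcomm : ∀ x ∈ A, ∀ y ∈ A, x * y = y * x := by
    intro x hx y hy
    have := hA.1
    exact congrArg Subtype.val (IsMulCommutative.is_comm.comm (⟨x, hx⟩ : A) ⟨y, hy⟩)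
  have hBO : IsBestOffenderOn 2 U B := by
    refine ⟨fun C hC => hmax C (hC.trans hBA), ?_, ?_⟩
    · rw [Subgroup.commutator_le]
      intro x hx y hy
      have : ⁅x, y⁆ = 1 := commutatorElement_eq_one_iff_mul_comm.2 (hcomm x (hBA hx) y (hBA hy))
      rw [this]; exact one_mem _
    · intro a ha
      rw [hA.2 a (hBA ha)]; exact one_mem _
  obtain ⟨h1, -, h3⟩ := Cfsg.Agent.S0599.result U B hU (hBA.trans hN) hBO U le_rfl
  set E : Subgroup G := B ⊓ centralizer ((⁅U, B⁆ : Subgroup G) : Set G) with hE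
  have hEB : E ≤ B := inf_le_left
  have hne : ⁅U, B⁆ ≠ ⊥ := fun h => hmvB (by
    rw [Subgroup.commutator_comm, Subgroup.commutator_eq_bot_iff_le_centralizer] at h
    exact h)
  refine ⟨E, hEB.trans hBA, fun hc => h3 hne ?_, ?_, ?_⟩
  · rw [Subgroup.commutator_comm, Subgroup.commutator_eq_bot_iff_le_centralizer]
    exact hc
  · have h4 := h1.1 (E ⊓ centralizer (U : Set G)) inf_le_left
    rw [inf_cent_of_le (B := E ⊓ centralizer (U : Set G)) inf_le_right, mul_comm] at h4
    exact h4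
  · rw [Subgroup.commutator_eq_bot_iff_le_centralizer]
    have h5 : E ≤ centralizer ((⁅U, B⁆ : Subgroup G) : Set G) := inf_le_right
    exact (Subgroup.commutator_mono le_rfl hEB).trans (le_centralizer_iff.1 h5)

end Cfsg.Agent.Omega.NO3S.V4.Timm
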