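import Cfsg.Agent.Omega.NO3S.V4.Avg
import Cfsg.Agent.Omega.NO3S.MFive.Basic

/-!
# THEOREM V4 (helper537 #25093), CLAIM 2: the light side

`x = 12`, `w = 34`, `u = 15`, `p = z_3` (so `p w = z_4`), `C = C_G(34)`, `X = C_G(12, 34)`, `N = ⟨12^C⟩`, `U = ⟨V^C⟩`.

* `Fr2 L B V x w u p` : the hypotheses of CLAIM 2, the result of CLAIM 1 included (`jv`, `jn`);
* **`Fr2.false`** : contradiction, modulo (ML) and THEOREM KL.
-/

set_option autoImplicit false
set_option linter.unusedSectionVars false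
set_option linter.unusedVariables false

namespace Cfsg.Agent.Omega.NO3S.V4

open Subgroup Cfsg Cfsg.Agent.ZN Cfsg.Agent.ZN.ChoiceBase
open Cfsg.Agent.ZN.ChoiceSit
open Cfsg.Agent.MinSimple.MinParabolic (IsMinPar le_of_forall)
open Cfsg.Agent.Omega.NO3S.EThree
open Cfsg.Agent.Omega.NO3S.EThree.ExactA (eab_mono eab_sup eab_iff)
open Cfsg.Agent.Omega.EK3.Rank (NoOn exch mem_inf_of_mem_AA exch_inf jj_inf_le le_of_mem)
open Cfsg.Agent.Omega.ESym.CoreS (mem_norm_of_le jj_norm)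
open Cfsg.Agent.Omega.NO3S.ML (card_mul_relIndex card_sup_mul_of_comm)
open Cfsg.Agent.Omega.NO3S.MFive (nc le_nc cj_le_nc nc_norm nc_le nc_mono norm_sup)

universe u

variable {G : Type u} [Group G]

/-! ### Two subgroups -/

theorem conj_mem {N : Subgroup G} {g n : G} (hg : g ∈ normalizer (N : Set G)) (hn : n ∈ N) : g * n * g⁻¹ ∈ N :=
  (mem_normalizer_iff.1 hg n).1 hn

theorem conj_mem' {N : Subgroup G} {g n : G} (hg : g ∈ normalizer (N : Set G)) (hn : n ∈ N) : g⁻¹ * n * g ∈ N := by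
  have h1 := conj_mem (inv_mem hg) hn
  rwa [inv_inv] at h1

theorem mem_sup_of_norm {C T : Subgroup G} (h : T ≤ normalizer (C : Set G)) {x : G} (hx : x ∈ T ⊔ C) :
    ∃ t ∈ T, ∃ c ∈ C, x = t * c := by
  rw [← SetLike.mem_coe, coe_mul_of_left_le_normalizer_right T C h] at hx
  obtain ⟨t, ht, c, hc, e⟩ := Set.mem_mul.1 hx
  exact ⟨t, ht, c, hc, e.symm⟩

/-- the kernel of `C` on `U / N` -/
def Ker (C N : Subgroup G) (h : C ≤ normalizer (N : Set G)) (U : Set G) : Subgroup G where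
  carrier := {c | c ∈ C ∧ ∀ v ∈ U, c * v * c⁻¹ * v⁻¹ ∈ N}
  one_mem' := ⟨one_mem _, fun v _ => by simp⟩
  mul_mem' := by
    rintro a b ⟨ha, ha'⟩ ⟨hb, hb'⟩
    refine ⟨mul_mem ha hb, fun v hv => ?_⟩
    have h1 := conj_mem (h ha) (hb' v hv)
    have e : a * b * v * (a * b)⁻¹ * v⁻¹ = (a * (b * v * b⁻¹ * v⁻¹) * a⁻¹) * (a * v * a⁻¹ * v⁻¹) := by group
    rw [e]
    exact mul_mem h1 (ha' v hv)
  inv_mem' := by
    rintro a ⟨ha, ha'⟩
    refine ⟨inv_mem ha, fun v hv => ?_⟩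
    have h1 := conj_mem' (h ha) (inv_mem (ha' v hv))
    have e : a⁻¹ * v * a⁻¹⁻¹ * v⁻¹ = a⁻¹ * (a * v * a⁻¹ * v⁻¹)⁻¹ * a := by group
    rw [e]
    exact h1

theorem mem_Ker {C N : Subgroup G} {h : C ≤ normalizer (N : Set G)} {U : Set G} {c : G} :
    c ∈ Ker C N h U ↔ c ∈ C ∧ ∀ v ∈ U, c * v * c⁻¹ * v⁻¹ ∈ N := Iff.rfl

theorem le_norm_of {H K : Subgroup G} (h : ∀ g ∈ H, ∀ k ∈ K, g * k * g⁻¹ ∈ K) : H ≤ normalizer (K : Set G) := by
  intro g hg
  rw [mem_normalizer_iff]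
  intro k
  refine ⟨h g hg k, fun hk => ?_⟩
  have h1 := h g⁻¹ (inv_mem hg) _ hk
  have e : g⁻¹ * (g * k * g⁻¹) * g⁻¹⁻¹ = k := by group
  rwa [e] at h1

theorem Ker_norm {C N : Subgroup G} {h : C ≤ normalizer (N : Set G)} {U : Subgroup G}
    (hU : C ≤ normalizer (U : Set G)) : C ≤ normalizer (Ker C N h U : Set G) := by
  refine le_norm_of fun g hg k hk => ⟨mul_mem (mul_mem hg hk.1) (inv_mem hg), fun v hv => ?_⟩
  have h1 := conj_mem (h hg) (hk.2 _ (conj_mem' (hU hg) hv))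
  have e : g * k * g⁻¹ * v * (g * k * g⁻¹)⁻¹ * v⁻¹ = g * (k * (g⁻¹ * v * g) * k⁻¹ * (g⁻¹ * v * g)⁻¹) * g⁻¹ := by group
  rw [e]
  exact h1

theorem o2_norm {H K : Subgroup G} [Finite G] (h : H ≤ normalizer (K : Set G)) : H ≤ normalizer (o2 K : Set G) := by
  intro g hg
  rw [mem_normalizer_iff_cj, ← o2_cj, cj_eq_of_mem_normalizer (h hg)]

theorem cent_norm {H K : Subgroup G} (h : H ≤ normalizer (K : Set G)) :
    H ≤ normalizer (centralizer (K : Set G) : Set G) := by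
  refine le_norm_of fun g hg k hk => mem_centralizer_iff.2 fun n hn => ?_
  have h1 := mem_centralizer_iff.1 hk _ (conj_mem' (h hg) hn)
  calc n * (g * k * g⁻¹) = g * ((g⁻¹ * n * g) * k) * g⁻¹ := by group
    _ = g * (k * (g⁻¹ * n * g)) * g⁻¹ := by rw [h1]
    _ = g * k * g⁻¹ * n := by group

/-- the elements of `⟨a, S⟩`, `a` a central involution -/
theorem mem_ins {S : Set G} {a y : G} (ha : a * a = 1) (hc : ∀ s ∈ closure S, a * s = s * a)
    (hy : y ∈ closure (insert a S)) : y ∈ closure S ∨ ∃ s ∈ closure S, y = a * s := by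
  induction hy using closure_induction with
  | mem y hy =>
    rcases hy with rfl | hy
    · exact Or.inr ⟨1, one_mem _, by rw [mul_one]⟩
    · exact Or.inl (subset_closure hy)
  | one => exact Or.inl (one_mem _)
  | mul y z _ _ hy hz =>
    rcases hy with hy | ⟨s, hs, rfl⟩ <;> rcases hz with hz | ⟨t, ht, rfl⟩
    · exact Or.inl (mul_mem hy hz)
    · exact Or.inr ⟨y * t, mul_mem hy ht, by rw [← mul_assoc, ← hc y hy, mul_assoc]⟩
    · exact Or.inr ⟨s * z, mul_mem hs hz, by rw [mul_assoc]⟩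
    · refine Or.inl ?_
      have e : a * s * (a * t) = s * t := by
        calc a * s * (a * t) = (a * s) * a * t := by group
          _ = s * (a * a) * t := by rw [hc s hs]; group
          _ = s * t := by rw [ha, mul_one]
      rw [e]
      exact mul_mem hs ht
  | inv y _ hy =>
    rcases hy with hy | ⟨s, hs, rfl⟩
    · exact Or.inl (inv_mem hy)
    · refine Or.inr ⟨s⁻¹, inv_mem hs, ?_⟩
      have e : a⁻¹ = a := inv_eq_of_mul_eq_one_left ha
      rw [mul_inv_rev, e, hc _ (inv_mem hs)]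

theorem mem_single {a y : G} (ha : a * a = 1) (hy : y ∈ closure ({a} : Set G)) : y = 1 ∨ y = a := by
  have h1 : y ∈ closure (insert a (∅ : Set G)) := by rwa [insert_empty_eq]
  have h0 : ∀ s ∈ closure (∅ : Set G), s = 1 := fun s hs => by
    rwa [Subgroup.closure_empty, mem_bot] at hs
  rcases mem_ins ha (fun s hs => by rw [h0 s hs, mul_one, one_mul]) h1 with h2 | ⟨s, hs, rfl⟩
  · exact Or.inl (h0 _ h2)
  · exact Or.inr (by rw [h0 s hs, mul_one])

theorem card_ins [Finite G] {S : Set G} {a : G} (ha : a * a = 1) (haS : a ∉ closure S)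
    (hc : ∀ s ∈ closure S, a * s = s * a) : Nat.card (closure (insert a S)) = 2 * Nat.card (closure S) := by
  have e : closure (insert a S) = zpowers a ⊔ closure S := by
    rw [zpowers_eq_closure, ← Subgroup.closure_union]
    rfl
  have h2 : ∀ z ∈ zpowers a, z = 1 ∨ z = a := fun z hz => mem_single ha (by rwa [← zpowers_eq_closure])
  have h1 := card_sup_mul_of_comm (K := zpowers a) (L := closure S) fun z hz s hs => by
    rcases h2 z hz with rfl | rfl
    · rw [one_mul, mul_one]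
    · exact hc s hs
  have h3 : zpowers a ⊓ closure S = ⊥ := by
    rw [eq_bot_iff]
    rintro z ⟨hz, hz2⟩
    rcases h2 z hz with rfl | rfl
    · exact one_mem _
    · exact absurd hz2 haS
  have h4 : Nat.card (zpowers a) = 2 := by
    rw [Nat.card_zpowers]
    exact orderOf_eq_prime (by rw [pow_two, ha]) fun e => haS (by rw [e]; exact one_mem _)
  rw [← e, h3, h4] at h1
  simpa using h1

/-- `C = C_G(w)` -/
abbrev Cw (w : G) : Subgroup G := centralizer ({w} : Set G)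

/-- `X = C_G(x, w)` -/
abbrev Xx (x w : G) : Subgroup G := centralizer ({w} : Set G) ⊓ centralizer ({x} : Set G)

/-- `N = ⟨x^C⟩` -/
abbrev Nn (x w : G) : Subgroup G := nc (Cw w) (zpowers x)

theorem mem_Cw {w g : G} : g ∈ Cw w ↔ g * w = w * g := mem_centralizer_singleton_iff

/-- **The hypotheses of CLAIM 2**, `x = 12`, `w = 34`, `u = 15`, `p = z_3`. -/
structure Fr2 (L B V : Subgroup G) (x w u p : G) : Prop where
  two : IsPGroup 2 B
  syl : ¬ 2 ∣ B.relIndex (Cw w)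
  BL : B ≤ L
  LV : L ≤ normalizer (V : Set G)
  VL : normalizer (V : Set G) ≤ L
  Bx : ∀ b ∈ B, b * x = x * b
  Bw : ∀ b ∈ B, b * w = w * b
  wV : w ∈ V
  gen : V = closure {p, u, x, w}
  w1 : w ≠ 1
  xw : x ∉ zpowers w
  uW : u ∉ closure {x, w}
  pW : p ∉ closure {u, x, w}
  bu : ∃ b ∈ B, b * u * b⁻¹ = x * u
  /-- `C_L(34)` normalises `even{1,2,5}` -/
  lx : ∀ c ∈ L, c * w = w * c → c ∈ normalizer (closure {u, x} : Set G)
  /-- `C_L(34)` fixes `{z_3, z_4}` -/
  lp : ∀ c ∈ L, c * w = w * c → c * p * c⁻¹ * p⁻¹ ∈ zpowers w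
  lm : ∃ c ∈ L, c * w = w * c ∧ c * x ≠ x * c
  /-- the stabiliser of `{z_3, z_4}` is in `L` -/
  cp : ∀ c : G, c * w = w * c → c * p * c⁻¹ * p⁻¹ ∈ zpowers w → c ∈ L
  /-- `12` is light, `12.34` is heavy -/
  hvy : ∀ c : G, c * x * c⁻¹ ≠ x * w
  ab : IsElementaryAbelian 2 (nc (Cw w) V)
  XL : ¬ Xx x w ≤ L
  /-- `q ∈ Q_z` -/
  sw : ∃ q ∈ L, cj q (Xx x w) = Xx x w ∧ V ≤ closure {u, x, w} ⊔ cj q (closure {u, x, w})
  uni : ∀ R : Subgroup G, IsMinPar B R → R ≤ Cw w → (∃ r ∈ R, r * x ≠ x * r) → R ≤ L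
  nb : ∀ g, g * w = w * g → g ∈ normalizer (B : Set G) → g ∈ L ∧ g * x = x * g
  /-- (ML) -/
  no : NoOn (o2 (Xx x w)) (Nn x w)
  /-- CLAIM 1 -/
  jv : jj (o2 (Xx x w)) ≤ o2 (centralizer (V : Set G))
  /-- CLAIM 1 and (E) -/
  jn : ¬ Cw w ≤ normalizer (jj (o2 (Xx x w)) : Set G)
  KC : IsKGroup (Cw w)

variable [Finite G] {L B V : Subgroup G} {x w u p : G}

section frame

variable (h : Fr2 L B V x w u p)
include h

theorem Fr2.xV : x ∈ V := by rw [h.gen]; exact subset_closure (by simp)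
theorem Fr2.uV : u ∈ V := by rw [h.gen]; exact subset_closure (by simp)
theorem Fr2.pV : p ∈ V := by rw [h.gen]; exact subset_closure (by simp)

theorem Fr2.BX : B ≤ Xx x w := fun b hb => mem_inf.2 ⟨mem_Cw.2 (h.Bw b hb), mem_Cw.2 (h.Bx b hb)⟩

theorem Fr2.BC : B ≤ Cw w := h.BX.trans inf_le_left

theorem Fr2.zV : zpowers x ≤ V := zpowers_le.2 h.xV

theorem Fr2.NU : Nn x w ≤ nc (Cw w) V := nc_mono le_rfl h.zV

theorem Fr2.VU : V ≤ nc (Cw w) V := le_nc _ _

theorem Fr2.xN : x ∈ Nn x w := le_nc _ _ (mem_zpowers x)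

theorem Fr2.CN : Cw w ≤ normalizer (Nn x w : Set G) := nc_norm _ _

theorem Fr2.CU : Cw w ≤ normalizer (nc (Cw w) V : Set G) := nc_norm _ _

theorem Fr2.sqU : ∀ a ∈ nc (Cw w) V, a * a = 1 := fun a ha => by rw [← pow_two]; exact h.ab.2 a ha

theorem Fr2.cmU : ∀ a ∈ nc (Cw w) V, ∀ b ∈ nc (Cw w) V, a * b = b * a := fun _ ha _ hb =>
  KL.PlugG.comm_of_sq h.sqU ha hb

theorem Fr2.UC : nc (Cw w) V ≤ Cw w := fun a ha => mem_Cw.2 (h.cmU a ha w (h.VU h.wV))

theorem Fr2.U_le : nc (Cw w) V ≤ o2 (Cw w) := by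
  refine MinSimple.VModule.le_o2 h.UC ?_ h.CU
  intro a
  refine ⟨1, ?_⟩
  rw [pow_one]
  exact Subtype.ext (h.ab.2 a a.2)

theorem Fr2.o2C_le : o2 (Cw w) ≤ B := MinSimple.VModule.o2_le_of_sylow h.two h.syl

theorem Fr2.o2C_le_O : o2 (Cw w) ≤ o2 (Xx x w) :=
  MinSimple.VModule.le_o2 (h.o2C_le.trans h.BX) (MinSimple.VModule.o2_isPGroup _) (inf_le_left.trans (MinSimple.VModule.le_normalizer_o2 _))

theorem Fr2.UO : nc (Cw w) V ≤ o2 (Xx x w) := h.U_le.trans h.o2C_le_O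

theorem Fr2.NO : Nn x w ≤ o2 (Xx x w) := h.NU.trans h.UO

theorem Fr2.eN : IsElementaryAbelian 2 (Nn x w) := eab_mono h.ab h.NU

/-- `C_O(N) = O_2(C)` -/
theorem Fr2.Q_eq : o2 (Xx x w) ⊓ centralizer (Nn x w : Set G) = o2 (Cw w) := by
  refine le_antisymm ?_ (le_inf h.o2C_le_O ?_)
  · set K : Subgroup G := Cw w ⊓ centralizer (Nn x w : Set G) with hK
    have hKX : K ≤ Xx x w := by
      intro k hk
      refine mem_inf.2 ⟨hk.1, mem_Cw.2 ?_⟩
      exact (mem_centralizer_iff.1 hk.2 x h.xN).symm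
    have hCK : Cw w ≤ normalizer (K : Set G) := by
      refine le_norm_of fun g hg k hk => ?_
      refine mem_inf.2 ⟨mul_mem (mul_mem hg hk.1) (inv_mem hg), mem_centralizer_iff.2 fun n hn => ?_⟩
      have h1 := mem_centralizer_iff.1 hk.2 _ (conj_mem' (h.CN hg) hn)
      calc n * (g * k * g⁻¹) = g * ((g⁻¹ * n * g) * k) * g⁻¹ := by group
        _ = g * (k * (g⁻¹ * n * g)) * g⁻¹ := by rw [h1]
        _ = g * k * g⁻¹ * n := by group
    have h1 : o2 (Xx x w) ⊓ centralizer (Nn x w : Set G) ≤ o2 K := by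
      refine MinSimple.VModule.le_o2 (le_inf (inf_le_left.trans ((ChoiceSit.o2_le _).trans inf_le_left)) inf_le_right)
        ((MinSimple.VModule.o2_isPGroup (Xx x w)).to_le inf_le_left) ?_
      refine le_norm_of fun g hg k hk => mem_inf.2 ⟨?_, ?_⟩
      · exact conj_mem (MinSimple.VModule.le_normalizer_o2 _ (hKX hg)) hk.1
      · exact mul_mem (mul_mem hg.2 hk.2) (inv_mem hg.2)
    refine h1.trans (MinSimple.VModule.le_o2 ((ChoiceSit.o2_le _).trans inf_le_left) (MinSimple.VModule.o2_isPGroup _) (o2_norm hCK))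
  · rw [Subgroup.le_centralizer_iff]
    refine nc_le (zpowers_le.2 ?_) ?_
    · rw [mem_centralizer_iff]
      exact fun q hq => h.Bx q (h.o2C_le hq)
    · refine le_norm_of fun g hg k hk => mem_centralizer_iff.2 fun n hn => ?_
      have h1 := mem_centralizer_iff.1 hk _ (conj_mem' (MinSimple.VModule.le_normalizer_o2 _ hg) hn)
      calc n * (g * k * g⁻¹) = g * ((g⁻¹ * n * g) * k) * g⁻¹ := by group
        _ = g * (k * (g⁻¹ * n * g)) * g⁻¹ := by rw [h1]
        _ = g * k * g⁻¹ * n := by group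


theorem Fr2.noQ {N : Subgroup G} (hN : N = Nn x w) : IsElementaryAbelian 2 N ∧ N ≤ o2 (Xx x w) ∧ NoOn (o2 (Xx x w)) N := by
  subst hN
  exact ⟨h.eN, h.NO, h.no⟩

/-- `J(O_2(C))` centralises `U` -/
theorem Fr2.jQ_le : jj (o2 (Cw w)) ≤ centralizer (nc (Cw w) V : Set G) := by
  have h1 : jj (o2 (Cw w)) ≤ centralizer (V : Set G) := by
    rw [← h.Q_eq]
    exact (jj_inf_le h.eN h.NO h.no).trans (h.jv.trans (ChoiceSit.o2_le _))
  rw [Subgroup.le_centralizer_iff] at h1 ⊢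
  refine nc_le h1 ?_
  refine le_norm_of fun g hg k hk => mem_centralizer_iff.2 fun n hn => ?_
  have h2 : Cw w ≤ normalizer (jj (o2 (Cw w)) : Set G) := (MinSimple.VModule.le_normalizer_o2 _).trans (jj_norm _)
  have h1 := mem_centralizer_iff.1 hk _ (conj_mem' (h2 hg) hn)
  calc n * (g * k * g⁻¹) = g * ((g⁻¹ * n * g) * k) * g⁻¹ := by group
    _ = g * (k * (g⁻¹ * n * g)) * g⁻¹ := by rw [h1]
    _ = g * k * g⁻¹ * n := by group

/-- some member of `AA(O)` moves `N` -/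
theorem Fr2.exists_A : ∃ A ∈ AA (o2 (Xx x w)), ¬ A ≤ centralizer (Nn x w : Set G) := by
  by_contra hcon
  push Not at hcon
  apply h.jn
  have h1 : jj (o2 (Xx x w)) = jj (o2 (Cw w)) := by
    rw [← h.Q_eq]
    refine le_antisymm ?_ (jj_inf_le h.eN h.NO h.no)
    rw [jj_eq]
    exact sSup_le fun A hA => le_jj (mem_inf_of_mem_AA h.eN h.NO h.no hA (hcon A hA))
  rw [h1]
  exact (MinSimple.VModule.le_normalizer_o2 _).trans (jj_norm _)

theorem Fr2.inf_le {A : Subgroup G} (hA : A ∈ AA (o2 (Xx x w))) :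
    A ⊓ centralizer (Nn x w : Set G) ≤ centralizer (nc (Cw w) V : Set G) := by
  have h1 := le_jj (exch_inf h.eN h.NO h.no hA)
  rw [h.Q_eq] at h1
  exact (le_sup_left.trans h1).trans h.jQ_le

/-- `U = N C_U(A)` -/
theorem Fr2.U_le_sup {A : Subgroup G} (hA : A ∈ AA (o2 (Xx x w))) :
    nc (Cw w) V ≤ Nn x w ⊔ (centralizer (A : Set G) ⊓ nc (Cw w) V) := by
  set U := nc (Cw w) V with hU
  set N := Nn x w with hN
  set D : Subgroup G := centralizer (A : Set G) ⊓ U with hD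
  have hNU : N ≤ U := h.NU
  have hDU : D ≤ U := inf_le_right
  have hsU : N ⊔ D ≤ U := sup_le hNU hDU
  have h1 : (centralizer (A : Set G)).relIndex U ≤ (centralizer (A : Set G)).relIndex N := by
    refine (le_of_mem h.ab h.UO hA).trans ?_
    rw [← (exch h.eN h.NO h.no hA).1]
    refine Nat.le_of_dvd (Nat.pos_of_ne_zero (index_ne_zero_of_finite (H := (centralizer (N : Set G)).subgroupOf A))) ?_
    rw [← inf_relIndex_right (centralizer (U : Set G)), ← inf_relIndex_right (centralizer (N : Set G))]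
    refine relIndex_dvd_of_le_left _ ?_
    refine le_inf ?_ inf_le_right
    rw [inf_comm]
    exact h.inf_le hA
  have h2 : Nat.card (N ⊔ D : Subgroup G) * Nat.card (N ⊓ D : Subgroup G) = Nat.card N * Nat.card D :=
    card_sup_mul_of_comm fun a ha b hb => h.cmU a (hNU ha) b (hDU hb)
  have h3 : N ⊓ D = N ⊓ centralizer (A : Set G) :=
    le_antisymm (inf_le_inf_left _ inf_le_left) (le_inf inf_le_left (le_inf inf_le_right (inf_le_left.trans hNU)))
  have h4 : Nat.card (N ⊓ centralizer (A : Set G) : Subgroup G) * (centralizer (A : Set G)).relIndex N = Nat.card N := by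
    have := card_mul_relIndex (A := N ⊓ centralizer (A : Set G)) (B := N) inf_le_left
    rwa [inf_relIndex_left] at this
  have h5 : Nat.card D * (centralizer (A : Set G)).relIndex U = Nat.card U := by
    have := card_mul_relIndex (A := D) (B := U) hDU
    rwa [hD, inf_relIndex_right] at this
  have h6 : Nat.card U ≤ Nat.card (N ⊔ D : Subgroup G) := by
    rw [h3, ← h4] at h2
    have hpos : 0 < Nat.card (N ⊓ centralizer (A : Set G) : Subgroup G) := Nat.card_pos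
    have h7 : Nat.card (N ⊔ D : Subgroup G) = (centralizer (A : Set G)).relIndex N * Nat.card D := by
      refine Nat.eq_of_mul_eq_mul_right hpos (h2.trans ?_)
      ring
    rw [h7, ← h5, mul_comm]
    exact Nat.mul_le_mul_right _ h1
  exact (Subgroup.eq_of_le_of_card_ge hsU h6).ge

/-- `[U, A] ≤ N` -/
theorem Fr2.A_le_Ker {A : Subgroup G} (hA : A ∈ AA (o2 (Xx x w))) :
    A ≤ Ker (Cw w) (Nn x w) h.CN (nc (Cw w) V : Set G) := by
  have hAC : A ≤ Cw w := hA.2.1.trans ((ChoiceSit.o2_le _).trans inf_le_left)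
  intro a ha
  refine ⟨hAC ha, fun v hv => ?_⟩
  have h1 := h.U_le_sup hA hv
  rw [sup_comm] at h1
  obtain ⟨d, hd, n, hn, rfl⟩ := mem_sup_of_norm (inf_le_right.trans (h.UC.trans h.CN)) h1
  have h2 : a * d = d * a := mem_centralizer_iff.1 (mem_inf.1 hd).1 a ha
  have h3 : a * (d * n) * a⁻¹ * (d * n)⁻¹ = d * ((a * n * a⁻¹) * n⁻¹) * d⁻¹ := by
    calc a * (d * n) * a⁻¹ * (d * n)⁻¹ = (a * d) * n * a⁻¹ * (n⁻¹ * d⁻¹) := by group
      _ = d * ((a * n * a⁻¹) * n⁻¹) * d⁻¹ := by rw [h2]; group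
  rw [h3]
  exact conj_mem (h.CN (h.UC (mem_inf.1 hd).2)) (mul_mem (conj_mem (h.CN (hAC ha)) hn) (inv_mem hn))

/-- the elements `c` of `C` with `[U, c] ≤ N` -/
def Fr2.K : Subgroup G := Ker (Cw w) (Nn x w) h.CN (nc (Cw w) V : Set G)

theorem Fr2.KC' : h.K ≤ Cw w := fun _ hk => hk.1

theorem Fr2.Kn : Cw w ≤ normalizer (h.K : Set G) := Ker_norm h.CU

theorem Fr2.K_comm {k v : G} (hk : k ∈ h.K) (hv : v ∈ nc (Cw w) V) : k * v * k⁻¹ * v⁻¹ ∈ Nn x w := hk.2 v hv

theorem Fr2.K_mv : ∃ k ∈ h.K, k * x ≠ x * k := by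
  by_contra hcon
  push Not at hcon
  obtain ⟨A, hA, hmv⟩ := h.exists_A
  apply hmv
  have h1 : Nn x w ≤ centralizer (h.K : Set G) :=
    nc_le (zpowers_le.2 (mem_centralizer_iff.2 fun k hk => hcon k hk)) (cent_norm h.Kn)
  exact (h.A_le_Ker hA).trans (Subgroup.le_centralizer_iff.1 h1)

theorem Fr2.nB : Cw w ⊓ normalizer (B : Set G) ≤ L ⊓ Xx x w := by
  intro g hg
  have h1 := h.nb g (mem_Cw.1 hg.1) hg.2
  exact mem_inf.2 ⟨h1.1, mem_inf.2 ⟨hg.1, mem_Cw.2 h1.2⟩⟩

/-- a minimal parabolic of `K B` moves `x` -/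
theorem Fr2.exists_R : ∃ R : Subgroup G, R ≤ h.K ⊔ B ∧ R ≤ L ∧ B ≤ R ∧ ∃ r ∈ R, r * x ≠ x * r := by
  by_contra hcon
  push Not at hcon
  have hKB : h.K ⊔ B ≤ Cw w := sup_le h.KC' h.BC
  have h1 : h.K ⊔ B ≤ centralizer ({x} : Set G) := by
    refine le_of_forall (S := B) le_sup_right ?_ fun R hR hRK => ?_
    · exact (le_inf (inf_le_left.trans hKB) inf_le_right).trans (h.nB.trans (inf_le_right.trans inf_le_right))
    · by_contra hR2
      have hmv : ∃ r ∈ R, r * x ≠ x * r := by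
        by_contra h3
        push Not at h3
        exact hR2 fun r hr => mem_centralizer_singleton_iff.2 (h3 r hr)
      obtain ⟨r, hr, hrx⟩ := hmv
      exact hrx (hcon R hRK (h.uni R hR (hRK.trans hKB) ⟨r, hr, hrx⟩) hR.le r hr)
  obtain ⟨k, hk, hkx⟩ := h.K_mv
  exact hkx (mem_centralizer_singleton_iff.1 (h1 (mem_sup_left hk)))

theorem Fr2.ww : w * w = 1 := h.sqU w (h.VU h.wV)
theorem Fr2.xx : x * x = 1 := h.sqU x (h.VU h.xV)
theorem Fr2.uu : u * u = 1 := h.sqU u (h.VU h.uV)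
theorem Fr2.pp : p * p = 1 := h.sqU p (h.VU h.pV)
theorem Fr2.x1 : x ≠ 1 := fun e => h.xw (by rw [e]; exact one_mem _)

theorem Fr2.orbx {c : G} (hc : c ∈ L) (hcw : c * w = w * c) : c * x * c⁻¹ = x ∨ c * x * c⁻¹ = u ∨ c * x * c⁻¹ = u * x := by
  have h1 := conj_mem (h.lx c hc hcw) (subset_closure (by simp : x ∈ ({u, x} : Set G)))
  have hcx : c * x * c⁻¹ ≠ 1 := fun e => h.x1 (by
    have : x = c⁻¹ * (c * x * c⁻¹) * c := by group
    rw [this, e]; group)
  have hcm : ∀ s ∈ closure ({x} : Set G), u * s = s * u := fun s hs => by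
    have hs' : s ∈ V := (closure_le V).2 (Set.singleton_subset_iff.2 h.xV) hs
    exact h.cmU u (h.VU h.uV) s (h.VU hs')
  rcases mem_ins h.uu hcm h1 with h2 | ⟨s, hs, h2⟩
  · rcases mem_single h.xx h2 with h3 | h3
    · exact absurd h3 hcx
    · exact Or.inl h3
  · rcases mem_single h.xx hs with h3 | h3
    · rw [h3, mul_one] at h2
      exact Or.inr (Or.inl h2)
    · rw [h3] at h2
      exact Or.inr (Or.inr h2)

/-- the orbit of `x` under `C_L(w)` is the orbit under a minimal parabolic of `K B` -/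
theorem Fr2.exists_r {c : G} (hc : c ∈ L) (hcw : c * w = w * c) : ∃ r ∈ h.K ⊔ B, r * x * r⁻¹ = c * x * c⁻¹ := by
  obtain ⟨R, hRK, hRL, hBR, r, hr, hrx⟩ := h.exists_R
  obtain ⟨b, hb, hbu⟩ := h.bu
  have hRC : R ≤ Cw w := hRK.trans (sup_le h.KC' h.BC)
  have hxu : x * u = u * x := h.cmU x (h.VU h.xV) u (h.VU h.uV)
  have hbx : b * x * b⁻¹ = x := by rw [h.Bx b hb, mul_inv_cancel_right]
  have hbux : b * (u * x) * b⁻¹ = u := by
    calc b * (u * x) * b⁻¹ = (b * u * b⁻¹) * (b * x * b⁻¹) := by group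
      _ = x * u * x := by rw [hbu, hbx]
      _ = u := by rw [hxu, mul_assoc, h.xx, mul_one]
  have key : (∃ r ∈ R, r * x * r⁻¹ = u) ∧ ∃ r ∈ R, r * x * r⁻¹ = u * x := by
    rcases h.orbx (hRL hr) (mem_Cw.1 (hRC hr)) with h1 | h1 | h1
    · exact absurd (mul_inv_eq_iff_eq_mul.1 h1) hrx
    · refine ⟨⟨r, hr, h1⟩, b * r, mul_mem (hBR hb) hr, ?_⟩
      calc b * r * x * (b * r)⁻¹ = b * (r * x * r⁻¹) * b⁻¹ := by group
        _ = u * x := by rw [h1, hbu, hxu]
    · refine ⟨⟨b * r, mul_mem (hBR hb) hr, ?_⟩, r, hr, h1⟩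
      calc b * r * x * (b * r)⁻¹ = b * (r * x * r⁻¹) * b⁻¹ := by group
        _ = u := by rw [h1, hbux]
  rcases h.orbx hc hcw with h1 | h1 | h1
  · exact ⟨1, one_mem _, by rw [h1]; simp⟩
  · obtain ⟨r, hr, h2⟩ := key.1
    exact ⟨r, hRK hr, by rw [h1, h2]⟩
  · obtain ⟨r, hr, h2⟩ := key.2
    exact ⟨r, hRK hr, by rw [h1, h2]⟩

/-- `C_L(w) ≤ K X` -/
theorem Fr2.L_le : L ⊓ Cw w ≤ Xx x w ⊔ h.K := by
  intro c hc
  obtain ⟨r, hr, hrx⟩ := h.exists_r hc.1 (mem_Cw.1 hc.2)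
  have hKB : h.K ⊔ B ≤ Xx x w ⊔ h.K := sup_le le_sup_right (h.BX.trans le_sup_left)
  have hrC : r ∈ Cw w := (sup_le h.KC' h.BC : h.K ⊔ B ≤ Cw w) hr
  have h1 : r⁻¹ * c ∈ Xx x w := by
    refine mem_inf.2 ⟨mul_mem (inv_mem hrC) hc.2, mem_Cw.2 ?_⟩
    calc r⁻¹ * c * x = r⁻¹ * (c * x * c⁻¹) * c := by group
      _ = r⁻¹ * (r * x * r⁻¹) * c := by rw [hrx]
      _ = x * (r⁻¹ * c) := by group
  have e : c = r * (r⁻¹ * c) := by group
  rw [e]
  exact mul_mem (hKB hr) (mem_sup_left h1)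

/-- `C = K X` -/
theorem Fr2.C_le : Cw w ≤ Xx x w ⊔ h.K := by
  refine le_of_forall (S := B) h.BC (h.nB.trans (inf_le_right.trans le_sup_left)) fun R hR hRC => ?_
  by_cases hmv : ∃ r ∈ R, r * x ≠ x * r
  · exact (le_inf (h.uni R hR hRC hmv) hRC).trans h.L_le
  · push Not at hmv
    exact (le_inf hRC fun r hr => mem_Cw.2 (hmv r hr)).trans le_sup_left

theorem Fr2.uN : u ∈ Nn x w := by
  obtain ⟨c, hc, hcw, hcx⟩ := h.lm
  have h1 : c * x * c⁻¹ ∈ Nn x w := conj_mem (h.CN (mem_Cw.2 hcw)) h.xN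
  rcases h.orbx hc hcw with h2 | h2 | h2
  · exact absurd (mul_inv_eq_iff_eq_mul.1 h2) hcx
  · rwa [h2] at h1
  · rw [h2] at h1
    have := mul_mem h1 h.xN
    rwa [mul_assoc, h.xx, mul_one] at this


/-! ### `Nh = N ⟨w⟩` and the fixed vector -/

theorem Fr2.Cz : Cw w ≤ normalizer (zpowers w : Set G) := by
  refine le_norm_of fun g hg k hk => ?_
  have h1 : g * k = k * g := by
    obtain ⟨n, rfl⟩ := mem_zpowers_iff.1 hk
    exact (Commute.zpow_right (mem_Cw.1 hg) n)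
  rw [h1, mul_inv_cancel_right]
  exact hk

theorem Fr2.cz {c z : G} (hc : c ∈ Cw w) (hz : z ∈ zpowers w) : c * z = z * c := by
  obtain ⟨n, rfl⟩ := mem_zpowers_iff.1 hz
  exact (Commute.zpow_right (mem_Cw.1 hc) n)

/-- `N ⟨w⟩` -/
abbrev Nh (x w : G) : Subgroup G := Nn x w ⊔ zpowers w

theorem Fr2.CNh : Cw w ≤ normalizer (Nh x w : Set G) := fun _ hg => norm_sup (h.CN hg) (h.Cz hg)

theorem Fr2.zU : zpowers w ≤ nc (Cw w) V := (zpowers_le.2 h.wV).trans h.VU

theorem Fr2.NhU : Nh x w ≤ nc (Cw w) V := sup_le h.NU h.zU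

theorem Fr2.WNh : closure {u, x, w} ≤ Nh x w := by
  refine (closure_le _).2 ?_
  rintro y (rfl | rfl | hy)
  · exact mem_sup_left h.uN
  · exact mem_sup_left h.xN
  · rw [Set.mem_singleton_iff] at hy
    subst hy
    exact mem_sup_right (mem_zpowers _)

theorem Fr2.WV : closure {u, x, w} ≤ V := by
  refine (closure_le _).2 ?_
  rintro y (rfl | rfl | hy)
  · exact h.uV
  · exact h.xV
  · rw [Set.mem_singleton_iff] at hy
    subst hy
    exact h.wV

theorem Fr2.mem_V {v : G} (hv : v ∈ V) : v ∈ closure {u, x, w} ∨ ∃ s ∈ closure ({u, x, w} : Set G), v = p * s := by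
  rw [h.gen] at hv
  exact mem_ins h.pp (fun s hs => h.cmU p (h.VU h.pV) s (h.VU (h.WV hs))) hv

/-- commutators with a product -/
theorem Fr2.cmul {c a b : G} (hc : c ∈ Cw w) (ha : a ∈ nc (Cw w) V) (hb : b ∈ nc (Cw w) V) :
    c * (a * b) * c⁻¹ * (a * b)⁻¹ = (c * a * c⁻¹ * a⁻¹) * (c * b * c⁻¹ * b⁻¹) := by
  have h1 : c * b * c⁻¹ ∈ nc (Cw w) V := conj_mem (h.CU hc) hb
  have h2 := h.cmU _ (mul_mem h1 (inv_mem hb)) a⁻¹ (inv_mem ha)
  calc c * (a * b) * c⁻¹ * (a * b)⁻¹ = (c * a * c⁻¹) * ((c * b * c⁻¹ * b⁻¹) * a⁻¹) := by group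
    _ = (c * a * c⁻¹ * a⁻¹) * (c * b * c⁻¹ * b⁻¹) := by rw [h2]; group

theorem Fr2.stx {c : G} (h1 : c * x * c⁻¹ * x⁻¹ ∈ zpowers w) : c * x = x * c := by
  rw [zpowers_eq_closure] at h1
  rcases mem_single h.ww h1 with h2 | h2
  · exact mul_inv_eq_iff_eq_mul.1 (mul_inv_eq_one.1 h2)
  · refine absurd ?_ (h.hvy c)
    rw [mul_inv_eq_iff_eq_mul.1 h2]
    exact h.cmU w (h.VU h.wV) x (h.VU h.xV)

/-- the elements of `C` fixing `y` modulo `⟨w⟩` -/
def Fr2.Sy (y : G) : Subgroup G := Ker (Cw w) (zpowers w) h.Cz {y}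

theorem Fr2.mem_Sy {y c : G} : c ∈ h.Sy y ↔ c ∈ Cw w ∧ c * y * c⁻¹ * y⁻¹ ∈ zpowers w := by
  constructor
  · exact fun hc => ⟨hc.1, hc.2 y rfl⟩
  · rintro ⟨h1, h2⟩
    refine ⟨h1, ?_⟩
    rintro v hv
    rw [Set.mem_singleton_iff] at hv
    rw [hv]
    exact h2

/-- `O_V = O_2(C_G(V)) ≤ C_L(w)` -/
theorem Fr2.OV_le : o2 (centralizer (V : Set G)) ≤ L ⊓ Cw w := by
  refine (ChoiceSit.o2_le _).trans (le_inf ((centralizer_le_normalizer _).trans h.VL) ?_)
  exact centralizer_le (Set.singleton_subset_iff.2 h.wV)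

theorem Fr2.L_norm_OV : L ≤ normalizer (o2 (centralizer (V : Set G)) : Set G) := o2_norm (cent_norm h.LV)

/-- **the vector `y`** -/
theorem Fr2.exists_y : ∃ y ∈ Nh x w, y ∉ zpowers w ∧ L ⊓ Cw w ≤ h.Sy y ∧
    o2 (centralizer (V : Set G)) ⊓ h.K ≤ o2 (h.Sy y) := by
  have hLp : L ⊓ Cw w ≤ h.Sy p := fun c hc => h.mem_Sy.2 ⟨hc.2, h.lp c hc.1 (mem_Cw.1 hc.2)⟩
  have hSp : h.Sy p ≤ L := fun c hc => h.cp c (mem_Cw.1 (h.mem_Sy.1 hc).1) (h.mem_Sy.1 hc).2
  have hpz : p ∉ zpowers w := fun hp => h.pW (zpowers_le.2 (subset_closure (by simp)) hp)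
  by_cases hp : p ∈ Nh x w
  · -- (b)
    refine ⟨p, hp, hpz, hLp, inf_le_left.trans (MinSimple.VModule.le_o2 (h.OV_le.trans hLp)
      (MinSimple.VModule.o2_isPGroup _) (hSp.trans h.L_norm_OV))⟩
  · -- (a)
    set H : Subgroup G := Ker (Cw w) (Nh x w) h.CNh {p} with hH
    have mH : ∀ {c : G}, c ∈ H ↔ c ∈ Cw w ∧ c * p * c⁻¹ * p⁻¹ ∈ Nh x w := by
      intro c
      constructor
      · exact fun hc => ⟨hc.1, hc.2 p rfl⟩
      · rintro ⟨h1, h2⟩
        refine ⟨h1, ?_⟩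
        rintro v hv
        rw [Set.mem_singleton_iff] at hv
        rw [hv]
        exact h2
    have hHC : H ≤ Cw w := fun c hc => hc.1
    have hKH : h.K ≤ H := fun k hk => mH.2 ⟨h.KC' hk, mem_sup_left (h.K_comm hk (h.VU h.pV))⟩
    have hLH : L ⊓ Cw w ≤ H := fun c hc => mH.2 ⟨hc.2, mem_sup_right (h.lp c hc.1 (mem_Cw.1 hc.2))⟩
    have hBH : B ≤ H := (le_inf h.BL h.BC).trans hLH
    obtain ⟨f, hfU, hfp, hf⟩ := exists_fix_grp (U := nc (Cw w) V) (Z := zpowers w) (N := Nh x w) (H := H) (S := B)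
      (p := p) h.sqU le_sup_right h.NhU (hHC.trans h.CU) (fun c hc z hz => h.cz (hHC hc) hz) (h.VU h.pV)
      (fun c hc => (mH.1 hc).2) (fun s hs => h.lp s (h.BL hs) (h.Bw s hs))
      (fun h2 => h.syl (h2.trans (Dvd.intro _ (relIndex_mul_relIndex B H (Cw w) hBH hHC))))
    set n : G := f * p⁻¹ with hn
    have hpU := h.VU h.pV
    have hnU : n ∈ nc (Cw w) V := mul_mem hfU (inv_mem hpU)
    have hfn : f = n * p := by rw [hn]; group
    have hcn : ∀ {c : G}, c ∈ H → (c ∈ h.Sy n ↔ c ∈ h.Sy p) := by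
      intro c hc
      have h1 := hf c hc
      rw [hfn, h.cmul (hHC hc) hnU hpU] at h1
      rw [h.mem_Sy, h.mem_Sy]
      exact and_congr_right fun _ => ⟨fun h2 => (Subgroup.mul_mem_cancel_left _ h2).1 h1,
        fun h2 => (Subgroup.mul_mem_cancel_right _ h2).1 h1⟩
    by_cases hnz : n ∈ zpowers w
    · -- `n = 0`
      exfalso
      have hKL : h.K ≤ L := by
        intro k hk
        refine hSp ((hcn (hKH hk)).1 (h.mem_Sy.2 ⟨h.KC' hk, ?_⟩))
        rw [h.cz (h.KC' hk) hnz, mul_inv_cancel_right, mul_inv_cancel]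
        exact one_mem _
      have hNV : Nn x w ≤ V := by
        refine iSup_le fun c => ?_
        rintro _ ⟨y, hy, rfl⟩
        obtain ⟨m, rfl⟩ := mem_zpowers_iff.1 hy
        have hcx : (c : G) * x * (c : G)⁻¹ ∈ V := by
          obtain ⟨a, ha, k, hk, e⟩ := mem_sup_of_norm (inf_le_left.trans h.Kn) (h.C_le (inv_mem c.2))
          have e2 : (c : G) = k⁻¹ * a⁻¹ := by rw [← inv_inv (c : G), e]; group
          have hax : a * x = x * a := mem_Cw.1 ha.2
          have e3 : (c : G) * x * (c : G)⁻¹ = k⁻¹ * x * k⁻¹⁻¹ := by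
            rw [e2]
            calc k⁻¹ * a⁻¹ * x * (k⁻¹ * a⁻¹)⁻¹ = k⁻¹ * a⁻¹ * (x * a) * k := by group
              _ = k⁻¹ * a⁻¹ * (a * x) * k := by rw [hax]
              _ = k⁻¹ * x * k⁻¹⁻¹ := by group
          rw [e3]
          exact conj_mem (h.LV (inv_mem (hKL hk))) h.xV
        have e4 : (MulAut.conj (c : G)).toMonoidHom (x ^ m) = ((c : G) * x * (c : G)⁻¹) ^ m := by
          rw [map_zpow]
          rfl
        rw [e4]
        exact zpow_mem hcx m
      have hNhW : Nh x w = closure {u, x, w} := by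
        refine le_antisymm (fun y hy => ?_) h.WNh
        rcases h.mem_V (sup_le hNV (zpowers_le.2 h.wV) hy) with h1 | ⟨s, hs, rfl⟩
        · exact h1
        · exact absurd ((Subgroup.mul_mem_cancel_right _ (h.WNh hs)).1 hy) hp
      obtain ⟨q, hqL, hq1, hq2⟩ := h.sw
      have hXW : Xx x w ≤ normalizer (closure {u, x, w} : Set G) := by
        rw [← hNhW]
        exact inf_le_left.trans h.CNh
      have hXW2 : Xx x w ≤ normalizer (cj q (closure {u, x, w}) : Set G) := by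
        rw [← cj_normalizer, ← hq1]
        exact cj_mono q hXW
      have hV : V = closure {u, x, w} ⊔ cj q (closure {u, x, w}) := by
        refine le_antisymm hq2 (sup_le h.WV ?_)
        have h1 := cj_mono q h.WV
        rwa [cj_eq_of_mem_normalizer (h.LV hqL)] at h1
      apply h.XL
      refine le_trans (fun g hg => ?_) h.VL
      rw [hV]
      exact norm_sup (hXW hg) (hXW2 hg)
    · refine ⟨n, hfp, hnz, fun c hc => (hcn (hLH hc)).2 (hLp hc), ?_⟩
      have h1 : o2 (centralizer (V : Set G)) ⊓ h.K ≤ o2 (h.Sy n ⊓ h.K) := by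
        refine MinSimple.VModule.le_o2 (le_inf (fun c hc => ?_) inf_le_right)
          ((MinSimple.VModule.o2_isPGroup _).to_le inf_le_left) ?_
        · exact (hcn (hKH hc.2)).2 (hLp (h.OV_le hc.1))
        · refine le_norm_of fun g hg c hc => mem_inf.2 ⟨?_, ?_⟩
          · exact conj_mem (h.L_norm_OV (hSp ((hcn (hKH hg.2)).1 hg.1))) hc.1
          · exact mul_mem (mul_mem hg.2 hc.2) (inv_mem hg.2)
      refine h1.trans (MinSimple.VModule.le_o2 ((ChoiceSit.o2_le _).trans inf_le_left)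
        (MinSimple.VModule.o2_isPGroup _) (o2_norm ?_))
      refine le_norm_of fun g hg c hc => mem_inf.2 ⟨?_, ?_⟩
      · exact mul_mem (mul_mem hg hc.1) (inv_mem hg)
      · exact conj_mem (h.Kn (h.mem_Sy.1 hg).1) hc.2


theorem Fr2.card_W : (zpowers w).relIndex (closure {u, x, w}) = 4 := by
  have hz : zpowers w = closure {w} := zpowers_eq_closure w
  have hcm : ∀ a ∈ V, ∀ b ∈ V, a * b = b * a := fun a ha b hb => h.cmU a (h.VU ha) b (h.VU hb)
  have hwV : closure ({w} : Set G) ≤ V := (closure_le V).2 (Set.singleton_subset_iff.2 h.wV)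
  have hxwV : closure ({x, w} : Set G) ≤ V := by
    refine (closure_le V).2 ?_
    rintro y (rfl | hy)
    · exact h.xV
    · rw [Set.mem_singleton_iff] at hy
      rw [hy]
      exact h.wV
  have h1 : Nat.card (closure ({x, w} : Set G)) = 2 * Nat.card (closure ({w} : Set G)) :=
    card_ins h.xx (by rw [← hz]; exact h.xw) fun s hs => hcm x h.xV s (hwV hs)
  have h2 : Nat.card (closure ({u, x, w} : Set G)) = 2 * Nat.card (closure ({x, w} : Set G)) :=
    card_ins h.uu (fun hu => h.uW (by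
      have : ({x, w} : Set G) = {x, w} := rfl
      exact hu)) fun s hs => hcm u h.uV s (hxwV hs)
  have h3 : zpowers w ≤ closure ({u, x, w} : Set G) := zpowers_le.2 (subset_closure (by simp))
  have h4 := card_mul_relIndex h3
  rw [h2, h1, ← hz] at h4
  have hpos : 0 < Nat.card (zpowers w) := Nat.card_pos
  refine Nat.eq_of_mul_eq_mul_left hpos (h4.trans ?_)
  ring

theorem Fr2.ex {A : Subgroup G} (hA : A ∈ AA (o2 (Xx x w))) (hAC : A ≤ Cw w) :
    (centralizer (A : Set G)).relIndex (Nh x w) ≤ (centralizer (Nh x w : Set G)).relIndex A := by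
  have h1 : (centralizer (Nh x w : Set G)).relIndex A = (centralizer (Nn x w : Set G)).relIndex A := by
    have e : centralizer (Nh x w : Set G) ⊓ A = centralizer (Nn x w : Set G) ⊓ A := by
      refine le_antisymm (inf_le_inf_right _ (centralizer_le (SetLike.coe_subset_coe.2 le_sup_left))) ?_
      refine le_inf ?_ inf_le_right
      rw [Subgroup.le_centralizer_iff]
      refine sup_le ?_ ?_
      · rw [← Subgroup.le_centralizer_iff]
        exact inf_le_left
      · intro z hz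
        rw [mem_centralizer_iff]
        exact fun a ha => h.cz (hAC ha.2) hz
    rw [← inf_relIndex_right (centralizer (Nh x w : Set G)), e, inf_relIndex_right]
  rw [h1, (exch h.eN h.NO h.no hA).1]
  set N := Nn x w with hN
  set D : Subgroup G := centralizer (A : Set G) ⊓ Nh x w with hD
  have hzD : zpowers w ≤ D := by
    refine le_inf (fun z hz => mem_centralizer_iff.2 fun a ha => ?_) le_sup_right
    exact h.cz (hAC ha) hz
  have hND : N ⊔ D = Nh x w := le_antisymm (sup_le le_sup_left inf_le_right) (sup_le le_sup_left (hzD.trans le_sup_right))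
  have h2 : Nat.card (N ⊔ D : Subgroup G) * Nat.card (N ⊓ D : Subgroup G) = Nat.card N * Nat.card D :=
    card_sup_mul_of_comm fun a ha b hb => h.cmU a (h.NU ha) b (h.NhU hb.2)
  have h3 : N ⊓ D = N ⊓ centralizer (A : Set G) :=
    le_antisymm (inf_le_inf_left _ inf_le_left) (le_inf inf_le_left (le_inf inf_le_right (inf_le_left.trans le_sup_left)))
  have h4 : Nat.card (N ⊓ centralizer (A : Set G) : Subgroup G) * (centralizer (A : Set G)).relIndex N = Nat.card N := by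
    have := card_mul_relIndex (A := N ⊓ centralizer (A : Set G)) (B := N) inf_le_left
    rwa [inf_relIndex_left] at this
  have h5 : Nat.card D * (centralizer (A : Set G)).relIndex (Nh x w) = Nat.card (Nh x w) := by
    have := card_mul_relIndex (A := D) (B := Nh x w) inf_le_right
    rwa [hD, inf_relIndex_right] at this
  rw [hND, h3, ← h5, ← h4] at h2
  have hp1 : 0 < Nat.card (N ⊓ centralizer (A : Set G) : Subgroup G) := Nat.card_pos
  have hp2 : 0 < Nat.card D := Nat.card_pos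
  refine le_of_eq (Nat.eq_of_mul_eq_mul_left (Nat.mul_pos hp1 hp2) ?_)
  calc _ = Nat.card D * (centralizer (A : Set G)).relIndex (Nh x w) *
        Nat.card (N ⊓ centralizer (A : Set G) : Subgroup G) := by ring
    _ = _ := by rw [h2]; ring

/-- **THEOREM V4, CLAIM 2** -/
theorem Fr2.false (hML : ML.Final.MLK.{u, u}) (hKL : KL.Quo.NoInp.{u, u}) : False := by
  obtain ⟨A, hA, hmv⟩ := h.exists_A
  obtain ⟨y, hyN, hyz, hLy, hOy⟩ := h.exists_y
  have hAK : A ≤ h.K := h.A_le_Ker hA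
  have hAOV : A ≤ o2 (centralizer (V : Set G)) := (le_jj hA).trans h.jv
  have hAC : A ≤ Cw w := hAK.trans h.KC'
  have hyU := h.NhU hyN
  have hxU := h.VU h.xV
  have hWn : L ⊓ Cw w ≤ normalizer (closure {u, x, w} : Set G) := by
    intro c hc
    have e : closure ({u, x, w} : Set G) = closure {u, x} ⊔ zpowers w := by
      rw [zpowers_eq_closure, ← Subgroup.closure_union]
      congr 1
      ext g
      simp only [Set.mem_union, Set.mem_insert_iff, Set.mem_singleton_iff, or_assoc]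
    rw [e]
    exact norm_sup (h.lx c hc.1 (mem_Cw.1 hc.2)) (h.Cz hc.2)
  refine KL.PlugG.GIn.false (T := B) (C := Cw w) (N := Nh x w) (Z := zpowers w) (W := closure {u, x, w})
    (Sy := h.Sy y) (A := A) (x := x) (p := y) ?_ hML hKL
  exact
    { TC := h.BC
      two := h.two
      syl := h.syl
      sq := fun a ha => h.sqU a (h.NhU ha)
      CN := h.CNh
      ZN := le_sup_right
      CZ := fun c hc z hz => h.cz hc hz
      xN := mem_sup_left h.xN
      pN := hyN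
      gen := fun U hxU hzU hCU => sup_le (nc_le (zpowers_le.2 hxU) hCU) hzU
      stx := fun c _ h1 => h.stx h1
      sty := fun c hc => ⟨fun h1 => (h.mem_Sy.1 h1).2, fun h1 => h.mem_Sy.2 ⟨hc, h1⟩⟩
      SyC := fun c hc => (h.mem_Sy.1 hc).1
      x1 := h.xw
      p1 := hyz
      xp := by
        intro hxy
        obtain ⟨c, hc, hcw, hcx⟩ := h.lm
        have hcC : c ∈ Cw w := mem_Cw.2 hcw
        have h1 := h.cmul hcC hxU hyU
        rw [h.cz hcC hxy, mul_inv_cancel_right, mul_inv_cancel] at h1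
        have h2 := (h.mem_Sy.1 (hLy (mem_inf.2 ⟨hc, hcC⟩))).2
        apply hcx
        apply h.stx
        rw [eq_inv_of_mul_eq_one_left h1.symm]
        exact inv_mem h2
      ZW := zpowers_le.2 (subset_closure (by simp))
      WN := h.WNh
      xW := subset_closure (by simp)
      cW := h.card_W
      nx := fun g hg hgn => (h.nb g (mem_Cw.1 hg) hgn).2
      ny := h.nB.trans ((inf_le_inf_left _ inf_le_left).trans hLy)
      uni := fun R hR hRC hm => (le_inf (h.uni R hR hRC hm) hRC).trans (le_inf hWn hLy)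
      el := fun a ha => by rw [← pow_two]; exact hA.1.2 a ha
      Ax := hA.2.1
      Ay := (le_inf hAOV hAK).trans hOy
      mv := fun h1 => hmv (h1.trans (centralizer_le (SetLike.coe_subset_coe.2 le_sup_left)))
      ex := h.ex hA hAC
      KC := h.KC }

end frame

end Cfsg.Agent.Omega.NO3S.V4
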